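import Mathlib
import Cfsg.Agent.Blocks.DihedralDefect.Psi
import Cfsg.Agent.Blocks.QuaternionDefect.Parity
import Cfsg.Agent.PGroups.QuasiDihedral

/-!
# The coherent characters of a semidihedral group
-/

set_option autoImplicit false
set_option linter.unusedSectionVars false
set_option linter.style.haveILetI false

namespace Cfsg.Lib.Blocks.SemidihedralDefect

open Cfsg Cfsg.Lib.Chars
open Cfsg.Lib.Blocks.QuaternionDefect (Axis4 PsiData)
open scoped ComplexConjugate

universe u v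

/-- `P` is semidihedral of order `8 g`. -/
structure SDih {P : Type u} [Group P] (σ τ : P) (g : ℕ) : Prop where
  ord : orderOf σ = 4 * g
  card : Nat.card P = 8 * g
  two : ∃ k : ℕ, g = 2 ^ k
  even : Even g
  out : τ ∉ Subgroup.zpowers σ
  conj_eq : τ * σ * τ⁻¹ = σ ^ (2 * g) * σ⁻¹
  sq : τ * τ = 1

namespace SDih

variable {P : Type u} [Group P] {σ τ : P} {g : ℕ} (S : SDih σ τ g)

include S

lemma axis : Axis4 σ τ g where
  ord := S.ord
  card := S.card
  two := S.two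
  out := S.out
  inv_mod := by rw [S.conj_eq, inv_mul_cancel_right]; exact Subgroup.mem_zpowers _
  sq_mod := by rw [S.sq]; exact one_mem _

lemma two_le : 2 ≤ g := by
  obtain ⟨a, ha⟩ := S.even
  have := S.axis.pos
  omega

lemma conj_zpow (j : ℤ) : τ * σ ^ j * τ⁻¹ = σ ^ ((2 * (g : ℤ) - 1) * j) := by
  rw [← MulAut.conj_apply, map_zpow, MulAut.conj_apply, S.conj_eq, zpow_mul]
  congr 1
  rw [zpow_sub_one, ← zpow_natCast σ (2 * g)]
  push_cast
  rfl

lemma tau_inv : τ⁻¹ = τ := inv_eq_of_mul_eq_one_right S.sq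

lemma conj_value (x : P) (a : ℤ) :
    x⁻¹ * σ ^ a * x = σ ^ a ∧ x ∈ Subgroup.zpowers σ ∨
      x⁻¹ * σ ^ a * x = σ ^ ((2 * (g : ℤ) - 1) * a) ∧ x ∉ Subgroup.zpowers σ := by
  rcases S.axis.cases x with hx | hx
  · left
    obtain ⟨j, rfl⟩ := Subgroup.mem_zpowers_iff.1 hx
    exact ⟨by group, hx⟩
  · right
    obtain ⟨j, hj⟩ := Subgroup.mem_zpowers_iff.1 hx
    have hx' : x = τ⁻¹ * σ ^ j := by rw [hj]; group
    refine ⟨?_, fun hxA => S.out ?_⟩
    · calc x⁻¹ * σ ^ a * x = σ ^ (-j) * (τ * σ ^ a * τ⁻¹) * σ ^ j := by rw [hx']; group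
        _ = σ ^ ((2 * (g : ℤ) - 1) * a) := by rw [S.conj_zpow]; group
    · have h1 := Subgroup.mul_mem _ hx (Subgroup.inv_mem _ hxA)
      rwa [mul_inv_cancel_right] at h1

/-- An element outside `⟨z⟩`-roots is a noncentral involution, conjugate to `τ`. -/
lemma conj_tau {u : P} (hu : u ≠ 1) (hz : σ ^ (2 * g) ∉ Subgroup.zpowers u) :
    ∃ d : P, d * u * d⁻¹ = τ := by
  haveI := S.axis.finite
  have hout : u ∉ Subgroup.zpowers σ := by
    intro hm
    refine hz ?_
    by_cases h2 : u * u = 1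
    · rw [← S.axis.rot_involution hm (orderOf_eq_prime (by rwa [pow_two]) hu)]
      exact Subgroup.mem_zpowers u
    · rw [mul_comm 2 g, pow_mul]
      exact Subgroup.pow_mem _ (S.axis.y_mem hm h2) 2
  have husq : u * u = 1 := by
    rcases S.axis.mem_z_iff.1 (S.axis.off_sq hout) with e | e
    · exact e
    · exact absurd (e ▸ Subgroup.mul_mem _ (Subgroup.mem_zpowers u) (Subgroup.mem_zpowers u)) hz
  obtain ⟨j, hj⟩ := Subgroup.mem_zpowers_iff.1 ((S.axis.cases u).resolve_left hout)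
  have hu' : u = τ * σ ^ j := by rw [hj, ← mul_assoc, S.sq, one_mul]
  -- the exponent is even
  have hev : ((4 * g : ℕ) : ℤ) ∣ (2 * (g : ℤ) - 1) * j + j := by
    rw [← S.ord, orderOf_dvd_iff_zpow_eq_one, zpow_add, ← S.conj_zpow, S.tau_inv, ← husq, hu']
    group
  obtain ⟨c, hc⟩ := hev
  push_cast at hc
  have hg : (g : ℤ) ≠ 0 := by have := S.axis.pos; omega
  have hj2 : j = 2 * c := mul_left_cancel₀ (mul_ne_zero two_ne_zero hg) (by linear_combination hc)
  obtain ⟨a, ha⟩ := S.even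
  refine ⟨σ ^ (c * ((g : ℤ) + 1)), ?_⟩
  rw [hu', hj2]
  -- move the rotation across
  have key : σ ^ (c * ((g : ℤ) + 1)) * τ =
      τ * σ ^ ((2 * (g : ℤ) - 1) * (c * ((g : ℤ) + 1))) := by
    rw [← S.conj_zpow, S.tau_inv]
    calc σ ^ (c * ((g : ℤ) + 1)) * τ = τ * τ * σ ^ (c * ((g : ℤ) + 1)) * τ := by rw [S.sq, one_mul]
      _ = _ := by group
  rw [← mul_assoc, key, ← zpow_neg, mul_assoc, ← zpow_add, mul_assoc, ← zpow_add]
  conv_rhs => rw [← mul_one τ]
  congr 1
  rw [← orderOf_dvd_iff_zpow_eq_one, S.ord]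
  obtain ⟨k, hk⟩ := S.two
  refine ⟨c * a, ?_⟩
  push_cast
  have ha' : (g : ℤ) = a + a := by exact_mod_cast ha
  rw [ha']
  ring

/-- What commutes with `τ`. -/
lemma centralizer_tau {u : P} (h : u * τ = τ * u) :
    u = 1 ∨ u = σ ^ (2 * g) ∨ u = τ ∨ u = τ * σ ^ (2 * g) := by
  haveI := S.axis.finite
  have key : ∀ j : ℤ, σ ^ j * τ = τ * σ ^ j → σ ^ j = 1 ∨ σ ^ j = σ ^ (2 * g) := by
    intro j hj
    have h1 : σ ^ ((2 * (g : ℤ) - 1) * j) = σ ^ j := by
      rw [← S.conj_zpow, ← hj, mul_inv_cancel_right]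
    rw [zpow_eq_zpow_iff_modEq, S.ord, Int.modEq_iff_dvd] at h1
    obtain ⟨c, hc⟩ := h1
    push_cast at hc
    obtain ⟨k, hk⟩ := S.two
    -- `g - 1` is odd
    have h2 : (2 * (g : ℤ)) ∣ j := by
      obtain ⟨a, ha⟩ := S.even
      have hcop : IsCoprime (2 * (g : ℤ)) (1 - (g : ℤ)) :=
        ⟨(a : ℤ), 1 + (g : ℤ), by rw [show (g : ℤ) = a + a by exact_mod_cast ha]; ring⟩
      exact hcop.dvd_of_dvd_mul_left ⟨c, by linarith⟩
    obtain ⟨d, rfl⟩ := h2
    rw [zpow_mul, show σ ^ (2 * (g : ℤ)) = σ ^ (2 * g) by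
      rw [← zpow_natCast]; push_cast; rfl]
    exact S.axis.mem_z_iff.1 (Subgroup.zpow_mem _ (Subgroup.mem_zpowers _) d)
  rcases S.axis.cases u with hu | hu
  · obtain ⟨j, rfl⟩ := Subgroup.mem_zpowers_iff.1 hu
    rcases key j h with e | e
    · exact Or.inl e
    · exact Or.inr (Or.inl e)
  · obtain ⟨j, hj⟩ := Subgroup.mem_zpowers_iff.1 hu
    have hu' : u = τ * σ ^ j := by rw [hj, ← mul_assoc, S.sq, one_mul]
    rw [hu', mul_assoc] at h
    rcases key j (mul_left_cancel h) with e | e <;> rw [hu', e]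
    · exact Or.inr (Or.inr (Or.inl (mul_one τ)))
    · exact Or.inr (Or.inr (Or.inr rfl))

/-- Transport along an isomorphism. -/
lemma map {P' : Type v} [Group P'] (e : P ≃* P') : SDih (e σ) (e τ) g where
  ord := (MulEquiv.orderOf_eq e σ).trans S.ord
  card := (Nat.card_congr e.toEquiv).symm.trans S.card
  two := S.two
  even := S.even
  out := (S.axis.map e).out
  conj_eq := by rw [← map_inv, ← map_mul, ← map_mul, S.conj_eq, map_mul, map_pow, map_inv]
  sq := by rw [← map_mul, S.sq, map_one]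

section Characters

variable [Fintype P] {ζ : ℂ} (hζ : IsPrimitiveRoot ζ (4 * g))

/-- A linear character of the rotations. -/
noncomputable def lin (i : ℕ) : Subgroup.zpowers σ →* ℂˣ :=
  monoidHomOfForallMemZpowers (g := (⟨σ, Subgroup.mem_zpowers σ⟩ : Subgroup.zpowers σ))
    (g' := (hζ.isUnit (by have := S.axis.pos; omega)).unit ^ i)
    (fun x => by
      obtain ⟨j, hj⟩ := Subgroup.mem_zpowers_iff.1 x.2
      exact Subgroup.mem_zpowers_iff.2 ⟨j, Subtype.ext (by simpa using hj)⟩)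
    (orderOf_dvd_of_pow_eq_one (by
      rw [← Subgroup.orderOf_coe, S.ord, ← pow_mul]
      apply Units.ext
      push_cast
      rw [IsUnit.unit_spec, mul_comm, pow_mul, hζ.pow_eq_one, one_pow]))

lemma lin_zpow (i : ℕ) (a : ℤ) (hm : σ ^ a ∈ Subgroup.zpowers σ) :
    ((S.lin hζ i ⟨σ ^ a, hm⟩ : ℂˣ) : ℂ) = ζ ^ ((i : ℤ) * a) := by
  rw [show (⟨σ ^ a, hm⟩ : Subgroup.zpowers σ) = ⟨σ, Subgroup.mem_zpowers σ⟩ ^ a from
    Subtype.ext (by simp), map_zpow, lin, monoidHomOfForallMemZpowers_apply_gen,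
    Units.val_zpow_eq_zpow_val, Units.val_pow_eq_pow_val, IsUnit.unit_spec, zpow_mul, zpow_natCast]

/-- The induced linear character. -/
noncomputable def theta (i : ℕ) : P → ℂ :=
  indFun (Subgroup.zpowers σ) fun x => ((S.lin hζ i x : ℂˣ) : ℂ)

lemma theta_isChar (i : ℕ) : IsCharacter P (S.theta hζ i) :=
  IsCharacter.indFun (isCharacter_linear _)

lemma theta_off (i : ℕ) {x : P} (hx : x ∉ Subgroup.zpowers σ) : S.theta hζ i x = 0 :=
  indFun_eq_zero_of_forall _ _ _ fun t ht => hx (by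
    have := (Subgroup.normal_of_index_eq_two S.axis.index).conj_mem _ ht t
    rwa [show t * (t⁻¹ * x * t) * t⁻¹ = x by group] at this)

lemma theta_pow (i a : ℕ) :
    S.theta hζ i (σ ^ a) =
      ζ ^ ((i : ℤ) * a) + ζ ^ ((i : ℤ) * ((2 * (g : ℤ) - 1) * a)) := by
  classical
  have hterm : ∀ x : P, extendByZero (Subgroup.zpowers σ)
      (fun x => ((S.lin hζ i x : ℂˣ) : ℂ)) (x⁻¹ * σ ^ a * x) =
      if x ∈ Subgroup.zpowers σ then ζ ^ ((i : ℤ) * a)
      else ζ ^ ((i : ℤ) * ((2 * (g : ℤ) - 1) * a)) := by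
    intro x
    rcases S.conj_value x a with ⟨e, hx⟩ | ⟨e, hx⟩ <;> rw [zpow_natCast] at e <;> rw [e]
    · rw [if_pos hx, show σ ^ a = σ ^ ((a : ℤ)) from (zpow_natCast σ a).symm,
        extendByZero_mem _ (Subgroup.zpow_mem _ (Subgroup.mem_zpowers σ) _), S.lin_zpow hζ]
    · rw [if_neg hx, extendByZero_mem _ (Subgroup.zpow_mem _ (Subgroup.mem_zpowers σ) _),
        S.lin_zpow hζ]
  rw [theta, indFun_apply, Finset.sum_congr rfl fun x _ => hterm x, Finset.sum_ite,
    Finset.sum_const, Finset.sum_const, nsmul_eq_mul, nsmul_eq_mul]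
  have h1 : (Finset.univ.filter fun x : P => x ∈ Subgroup.zpowers σ).card = 4 * g := by
    rw [← S.ord, ← Nat.card_zpowers, Nat.card_eq_fintype_card, Fintype.card_subtype]
  have h2 : (Finset.univ.filter fun x : P => ¬ x ∈ Subgroup.zpowers σ).card = 4 * g := by
    have := Finset.card_filter_add_card_filter_not (s := (Finset.univ : Finset P))
      (fun x : P => x ∈ Subgroup.zpowers σ)
    rw [h1, Finset.card_univ, ← Nat.card_eq_fintype_card, S.card] at this
    omega
  rw [h1, h2, Nat.card_zpowers, S.ord]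
  have : ((4 * g : ℕ) : ℂ) ≠ 0 := by exact_mod_cast (show 4 * g ≠ 0 by have := S.axis.pos; omega)
  field_simp

lemma theta_inner (i j : ℕ) :
    classInner (S.theta hζ i) (S.theta hζ j) =
      (if ((4 * g : ℕ) : ℤ) ∣ (i : ℤ) - j then (1 : ℂ) else 0) +
        if ((4 * g : ℕ) : ℤ) ∣ (i : ℤ) - (2 * (g : ℤ) - 1) * j then (1 : ℂ) else 0 := by
  classical
  have hq : 0 < 4 * g := by have := S.axis.pos; omega
  have hne : ζ ≠ 0 := hζ.ne_zero (by omega)
  have hconj : ∀ m : ℤ, conj (ζ ^ m) = ζ ^ (-m) := fun m => by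
    rw [map_zpow₀, ← Complex.inv_eq_conj (Complex.norm_eq_one_of_pow_eq_one hζ.pow_eq_one hq.ne'),
      inv_zpow, zpow_neg]
  rw [theta, frobenius_reciprocity _ _ (isClassFunction_generalized (IsCharacter.isGeneralized (S.theta_isChar hζ j))), classInner_def,
    Nat.card_zpowers, S.ord]
  have hbij : ∑ x : Subgroup.zpowers σ, ((S.lin hζ i x : ℂˣ) : ℂ) * conj (S.theta hζ j x) =
      ∑ a ∈ Finset.range (4 * g),
        ((ζ ^ ((i : ℤ) - j)) ^ a + (ζ ^ ((i : ℤ) - (2 * (g : ℤ) - 1) * j)) ^ a) := by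
    symm
    refine Finset.sum_bij (fun a _ => ⟨σ ^ a, Subgroup.pow_mem _ (Subgroup.mem_zpowers σ) a⟩)
      (fun a _ => Finset.mem_univ _) ?_ ?_ ?_
    · intro a ha b hb e
      exact pow_injOn_Iio_orderOf (by rw [S.ord]; exact Finset.mem_range.1 ha)
        (by rw [S.ord]; exact Finset.mem_range.1 hb) (congrArg Subtype.val e)
    · rintro ⟨x, hx⟩ -
      obtain ⟨a, rfl⟩ := (Submonoid.mem_powers_iff x σ).1 (mem_powers_iff_mem_zpowers.2 hx)
      exact ⟨a % (4 * g), Finset.mem_range.2 (Nat.mod_lt _ hq),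
        Subtype.ext (by rw [← S.ord]; exact pow_mod_orderOf σ a)⟩
    · intro a _
      have e := S.lin_zpow hζ i (a : ℤ) (Subgroup.zpow_mem _ (Subgroup.mem_zpowers σ) _)
      simp only [zpow_natCast] at e
      rw [e, S.theta_pow hζ, map_add, hconj, hconj, mul_add, ← zpow_add₀ hne, ← zpow_add₀ hne,
        ← zpow_natCast (ζ ^ _), ← zpow_natCast (ζ ^ _), ← zpow_mul, ← zpow_mul]
      congr 2 <;> ring
  refine Eq.trans (congrArg _ hbij) ?_
  rw [Finset.sum_add_distrib, DihedralDefect.sum_zpow_root hζ, DihedralDefect.sum_zpow_root hζ]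
  have : (g : ℂ) ≠ 0 := Nat.cast_ne_zero.2 S.axis.pos.ne'
  split_ifs <;> push_cast <;> field_simp <;> ring

/-- The representative of an index. -/
def rep (g i : ℕ) : ℕ := if Even i ∨ i < g then i else i + g

omit S in
lemma rep_mod (hg : Even g) (i : ℕ) : rep g i % 2 = i % 2 := by
  obtain ⟨a, ha⟩ := hg
  unfold rep
  split_ifs <;> omega

/-- The generalized character vanishing outside the rotations of order at least four. -/
noncomputable def psi (i : ℕ) : P → ℂ := S.theta hζ (rep g i) - S.theta hζ (i % 2)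

include hζ in
lemma root_half : ζ ^ (2 * g) = -1 := by
  have := S.axis.pos
  have h1 : (ζ ^ (2 * g)) * (ζ ^ (2 * g)) = 1 := by
    rw [← pow_add, show 2 * g + 2 * g = 4 * g by ring, hζ.pow_eq_one]
  rcases mul_self_eq_one_iff.1 h1 with e | e
  · exact absurd e (hζ.pow_ne_one_of_pos_of_lt (by omega) (by omega))
  · exact e

include hζ in
lemma zpow_shift (i : ℤ) (n : ℤ) :
    ζ ^ (n + i * (2 * (g : ℤ))) = (-1) ^ i * ζ ^ n := by
  rw [zpow_add₀ (hζ.ne_zero (by have := S.axis.pos; omega)), mul_comm i, zpow_mul,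
    show ζ ^ (2 * (g : ℤ)) = ζ ^ (2 * g) by rw [← zpow_natCast]; push_cast; rfl, S.root_half hζ,
    mul_comm]

lemma theta_z_mul (i : ℕ) (x : P) :
    S.theta hζ i (σ ^ (2 * g) * x) = (-1) ^ i * S.theta hζ i x := by
  by_cases hx : x ∈ Subgroup.zpowers σ
  · obtain ⟨a, rfl⟩ := (Submonoid.mem_powers_iff x σ).1 (mem_powers_iff_mem_zpowers.2 hx)
    rw [← pow_add, S.theta_pow hζ, S.theta_pow hζ]
    have hr : ((-1 : ℂ)) ^ ((i : ℤ) * (2 * (g : ℤ) - 1)) = (-1) ^ i := by
      rw [show (i : ℤ) * (2 * (g : ℤ) - 1) = 2 * ((i : ℤ) * g - i) + i by ring,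
        zpow_add₀ (by norm_num), zpow_mul, zpow_natCast]
      norm_num
    rw [show (i : ℤ) * ((2 * g + a : ℕ) : ℤ) = (i : ℤ) * a + (i : ℤ) * (2 * (g : ℤ)) by push_cast; ring,
      show (i : ℤ) * ((2 * (g : ℤ) - 1) * ((2 * g + a : ℕ) : ℤ)) =
        (i : ℤ) * ((2 * (g : ℤ) - 1) * a) + (i : ℤ) * (2 * (g : ℤ) - 1) * (2 * (g : ℤ)) by
          push_cast; ring,
      S.zpow_shift hζ, S.zpow_shift hζ, hr, zpow_natCast, mul_add]
  · rw [S.theta_off hζ i hx, S.theta_off hζ i fun h => hx ?_, mul_zero]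
    exact (Subgroup.mul_mem_cancel_left _ (Subgroup.pow_mem _ (Subgroup.mem_zpowers σ) _)).1 h

lemma psi_z_mul (i : ℕ) (x : P) : S.psi hζ i (σ ^ (2 * g) * x) = (-1) ^ i * S.psi hζ i x := by
  rw [psi, Pi.sub_apply, Pi.sub_apply, S.theta_z_mul, S.theta_z_mul,
    show (-1 : ℂ) ^ rep g i = (-1) ^ i by
      rw [neg_one_pow_eq_pow_mod_two (R := ℂ) (n := rep g i),
        neg_one_pow_eq_pow_mod_two (R := ℂ) (n := i), rep_mod S.even],
    show (-1 : ℂ) ^ (i % 2) = (-1) ^ i from (neg_one_pow_eq_pow_mod_two i).symm]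
  ring

lemma psi_off (i : ℕ) {x : P} (hx : x ∉ Subgroup.zpowers σ ∨ x * x = 1) : S.psi hζ i x = 0 := by
  by_cases hm : x ∈ Subgroup.zpowers σ
  swap
  · simp [psi, S.theta_off hζ _ hm]
  have hx2 : x * x = 1 := hx.resolve_left (not_not.2 hm)
  have h1 : S.psi hζ i 1 = 0 := by
    have h := fun j : ℕ => S.theta_pow hζ j 0
    simp only [pow_zero, Nat.cast_zero, mul_zero, zpow_zero] at h
    simp [psi, h]
  by_cases hx1 : x = 1
  · rwa [hx1]
  · rw [S.axis.rot_involution hm (orderOf_eq_prime (by rwa [pow_two]) hx1),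
      ← mul_one (σ ^ (2 * g)), S.psi_z_mul, h1, mul_zero]

omit S in
lemma dvd_small {g : ℕ} {a : ℤ} (h : ((4 * g : ℕ) : ℤ) ∣ a) (h1 : -(4 * (g : ℤ)) < a)
    (h2 : a < 4 * (g : ℤ)) : a = 0 :=
  Int.eq_zero_of_abs_lt_dvd h (by rw [abs_lt]; push_cast; omega)

lemma inner_evens {a b : ℕ} (ha : a ≤ g) (hb : b ≤ g) :
    classInner (S.theta hζ (2 * a)) (S.theta hζ (2 * b)) =
      (if a = b then (1 : ℂ) else 0) +
        if a = 0 ∧ b = 0 ∨ a = g ∧ b = g then (1 : ℂ) else 0 := by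
  have := S.axis.pos
  rw [S.theta_inner]
  congr 1
  · refine if_congr ⟨fun e => ?_, fun e => by simp [e]⟩ rfl rfl
    have := dvd_small e (by push_cast; omega) (by push_cast; omega)
    push_cast at this
    omega
  · refine if_congr ⟨fun e => ?_, fun e => ?_⟩ rfl rfl
    · have e' : ((4 * g : ℕ) : ℤ) ∣ 2 * ((a : ℤ) + b) := by
        have h := Int.dvd_add e (Dvd.intro (b : ℤ) rfl)
        convert h using 1
        push_cast
        ring
      obtain ⟨c, hc⟩ := e'
      push_cast at hc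
      have h1 : (a : ℤ) + b = 2 * g * c := by linarith
      rcases (show c = 0 ∨ c = 1 by
        have : 0 ≤ c := by nlinarith
        have : c ≤ 1 := by nlinarith
        omega) with rfl | rfl
      · left; omega
      · right; omega
    · rcases e with ⟨h1, h2⟩ | ⟨h1, h2⟩ <;> rw [h1, h2]
      · simp
      · exact ⟨1 - (g : ℤ), by push_cast; ring⟩

omit S in
lemma rep_odd (s : ℕ) : rep g (2 * s + 1) = if 2 * s + 1 < g then 2 * s + 1 else 2 * s + 1 + g := by
  unfold rep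
  simp

lemma inner_odds {a b : ℕ} (ha : a < g) (hb : b < g) :
    classInner (S.theta hζ (rep g (2 * a + 1))) (S.theta hζ (rep g (2 * b + 1))) =
      if a = b then (1 : ℂ) else 0 := by
  obtain ⟨c, hc⟩ := S.even
  rw [S.theta_inner, rep_odd, rep_odd]
  have h2 : ∀ x y : ℕ, (y : ℤ) % 2 = 1 → ((4 * g : ℕ) : ℤ) ∣ (x : ℤ) - (2 * (g : ℤ) - 1) * y →
      ((4 * g : ℕ) : ℤ) ∣ (x : ℤ) + y - 2 * g := fun x y hy e => by
    have hy' : ((4 * g : ℕ) : ℤ) ∣ 2 * (g : ℤ) * ((y : ℤ) - 1) :=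
      ⟨(y : ℤ) / 2, by
        have : (y : ℤ) - 1 = 2 * ((y : ℤ) / 2) := by omega
        rw [this]; push_cast; ring⟩
    convert Int.dvd_add e hy' using 1
    ring
  rw [add_comm, if_neg, zero_add]
  · refine if_congr ⟨fun e => ?_, fun e => by rw [e]; simp⟩ rfl rfl
    have := dvd_small e (by push_cast; split_ifs <;> omega) (by push_cast; split_ifs <;> omega)
    push_cast at this
    split_ifs at this <;> omega
  · intro e
    have e' := h2 _ _ (by push_cast; split_ifs <;> omega) e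
    have := dvd_small e' (by push_cast; split_ifs <;> omega) (by push_cast; split_ifs <;> omega)
    push_cast at this
    split_ifs at this <;> omega

lemma inner_parity {i j : ℕ} (hi : Even i) (hj : Odd j) :
    classInner (S.theta hζ i) (S.theta hζ j) = 0 ∧ classInner (S.theta hζ j) (S.theta hζ i) = 0 := by
  have key : ∀ i j : ℕ, i % 2 ≠ j % 2 → classInner (S.theta hζ i) (S.theta hζ j) = 0 := by
    intro i j hij
    have h2 : ∀ a : ℤ, ((4 * g : ℕ) : ℤ) ∣ a → a % 2 = 0 := fun a h =>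
      Int.emod_eq_zero_of_dvd (dvd_trans ⟨2 * g, by push_cast; ring⟩ h)
    rw [S.theta_inner, if_neg, if_neg, add_zero]
    · intro e
      have := h2 _ e
      rw [show (i : ℤ) - (2 * (g : ℤ) - 1) * j = (i : ℤ) + j + 2 * (-(g : ℤ) * j) by ring,
        Int.add_mul_emod_self_left] at this
      omega
    · intro e
      have := h2 _ e
      omega
  rw [Nat.even_iff] at hi
  rw [Nat.odd_iff] at hj
  exact ⟨key i j (by omega), key j i (by omega)⟩

lemma psi_isGen (i : ℕ) : IsGeneralizedCharacter P (S.psi hζ i) :=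
  IsGeneralizedCharacter.sub (IsCharacter.isGeneralized (S.theta_isChar hζ _))
    (IsCharacter.isGeneralized (S.theta_isChar hζ (i % 2)))

omit S in
lemma rep_even (s : ℕ) : rep g (2 * s) = 2 * s := if_pos (Or.inl (even_two_mul s))

lemma psiData : PsiData σ g (S.psi hζ) where
  isGen := S.psi_isGen hζ
  off := fun i _ hx => S.psi_off hζ i hx
  z_mul := S.psi_z_mul hζ
  inner_even := fun s hs t ht => by
    rw [Finset.mem_Icc] at hs ht
    simp only [psi, classInner_sub_left, classInner_sub_right, rep_even, Nat.mul_mod_right]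
    have h0 : S.theta hζ 0 = S.theta hζ (2 * 0) := rfl
    rw [h0, S.inner_evens hζ hs.2 ht.2, S.inner_evens hζ hs.2 (Nat.zero_le g),
      S.inner_evens hζ (Nat.zero_le g) ht.2, S.inner_evens hζ (Nat.zero_le g) (Nat.zero_le g)]
    rw [if_neg (show ¬ s = 0 by omega), if_neg (show ¬ (0 = t) by omega)]
    rw [if_neg (show ¬ (s = 0 ∧ 0 = 0 ∨ s = g ∧ 0 = g) by omega),
      if_neg (show ¬ (0 = 0 ∧ t = 0 ∨ 0 = g ∧ t = g) by omega), if_pos rfl,
      if_pos (show 0 = 0 ∧ 0 = 0 ∨ 0 = g ∧ 0 = g from Or.inl ⟨rfl, rfl⟩)]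
    split_ifs <;> norm_num <;> omega
  inner_odd := fun s hs t ht => by
    rw [Finset.mem_Ico] at hs ht
    have h1 : S.theta hζ 1 = S.theta hζ (rep g (2 * 0 + 1)) := by
      rw [rep_odd, if_pos (show 2 * 0 + 1 < g by have := S.two_le; omega)]
    simp only [psi, classInner_sub_left, classInner_sub_right, show (2 * s + 1) % 2 = 1 by omega,
      show (2 * t + 1) % 2 = 1 by omega]
    rw [h1, S.inner_odds hζ hs.2 ht.2, S.inner_odds hζ hs.2 S.axis.pos,
      S.inner_odds hζ S.axis.pos ht.2, S.inner_odds hζ S.axis.pos S.axis.pos,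
      if_neg (show ¬ s = 0 by omega), if_neg (show ¬ 0 = t by omega), if_pos rfl]
    ring
  inner_cross := fun s _ t _ => by
    have ho : Odd (rep g (2 * t + 1)) := by
      rw [Nat.odd_iff, rep_mod S.even]; omega
    simp only [psi, classInner_sub_left, classInner_sub_right, rep_even, Nat.mul_mod_right,
      show (2 * t + 1) % 2 = 1 by omega]
    rw [(S.inner_parity hζ (even_two_mul s) ho).1, (S.inner_parity hζ (even_two_mul s) odd_one).1,
      (S.inner_parity hζ (by decide : Even 0) ho).1,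
      (S.inner_parity hζ (by decide : Even 0) odd_one).1]
    ring
  top_parity := fun η => by
    rw [psi, rep_even, Nat.mul_mod_right]
    refine QuaternionDefect.top_parity_aux S.axis (S.theta_isChar hζ 0) (S.theta_isChar hζ (2 * g))
      (fun x hx => ⟨S.theta_off hζ 0 hx, S.theta_off hζ _ hx⟩) (fun a => ?_) (fun a => ?_)
      ?_ ?_ (fun l => ?_) η
    · rw [S.theta_pow hζ]; simp; norm_num
    · rw [S.theta_pow hζ,
        show ((2 * g : ℕ) : ℤ) * (a : ℤ) = 0 + (a : ℤ) * (2 * (g : ℤ)) by push_cast; ring,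
        show ((2 * g : ℕ) : ℤ) * ((2 * (g : ℤ) - 1) * a) =
          0 + ((2 * (g : ℤ) - 1) * a) * (2 * (g : ℤ)) by push_cast; ring,
        S.zpow_shift hζ, S.zpow_shift hζ, zpow_zero, mul_one, mul_one,
        show (2 * (g : ℤ) - 1) * (a : ℤ) = 2 * ((g : ℤ) * a - a) + a by ring,
        zpow_add₀ (by norm_num), zpow_mul, zpow_natCast]
      norm_num
      ring
    · have h := S.inner_evens hζ (Nat.zero_le g) (Nat.zero_le g)
      rw [if_pos rfl, if_pos (Or.inl ⟨rfl, rfl⟩)] at h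
      rw [h]; norm_num
    · have h := S.inner_evens hζ (le_refl g) (le_refl g)
      rw [if_pos rfl, if_pos (Or.inr ⟨rfl, rfl⟩)] at h
      rw [h]; norm_num
    · have h := congrArg l S.conj_eq
      rw [map_mul, map_mul, map_mul, map_inv, map_inv, mul_comm (l τ), mul_assoc, mul_inv_cancel,
        mul_one, map_pow, eq_mul_inv_iff_mul_eq, ← pow_two] at h
      rw [map_pow]
      obtain ⟨c, hc⟩ := S.even
      have hord : (l σ ^ 2) ^ (2 * g) = 1 := by
        rw [← pow_mul, show 2 * (2 * g) = 4 * g by ring, ← S.ord, ← map_pow, pow_orderOf_eq_one,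
          map_one]
      have hg : (l σ ^ 2) ^ g = l σ ^ 2 := by rw [← pow_mul]; exact h.symm
      have h2 : (l σ ^ 2) ^ 2 = 1 := by
        rw [mul_comm 2 g, pow_mul, hg] at hord
        exact hord
      rw [← hg, hc, ← two_mul, pow_mul, h2, one_pow]

end Characters

end SDih

/-- A quasi-dihedral group has such generators. -/
theorem exists_sdih {P : Type u} [Group P] [Finite P] (h : Cfsg.IsQuasiDihedral P) :
    ∃ (σ τ : P) (k : ℕ), SDih σ τ (2 ^ (k + 1)) := by
  obtain ⟨m, a, b, hm, hgen⟩ := Cfsg.Lib.QD.exists_gen h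
  obtain ⟨j, rfl⟩ : ∃ j, m = j + 3 := ⟨m - 3, by omega⟩
  refine ⟨a, b, j, ?_, ?_, ⟨j + 1, rfl⟩, ?_, hgen.notMem, ?_, ?_⟩
  · rw [hgen.ord]; ring
  · rw [hgen.card]; ring
  · exact Nat.even_pow.2 ⟨even_two, by omega⟩
  · rw [hgen.conj, zpow_sub_one, ← zpow_natCast]
    congr 2
    push_cast
    exact pow_succ' 2 (j + 1)
  · rw [hgen.sq, zpow_zero]

end Cfsg.Lib.Blocks.SemidihedralDefect
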