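import Mathlib
import Cfsg.Agent.Blocks.SemidihedralDefect.Psi
import Cfsg.Agent.Blocks.QuaternionDefect.Transfer
import Cfsg.Agent.Blocks.Projective
import Cfsg.Agent.Blocks.RankOneBlock
import Cfsg.Agent.Chars.Count

/-!
# The section of a noncentral involution of a semidihedral defect group

When the involution of the cyclic part is central, the noncentral involution has one block in its
centralizer inducing the block, with central defect group of order four.
-/

set_option autoImplicit false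
set_option linter.unusedSectionVars false
set_option linter.style.haveILetI false

namespace Cfsg.Lib.Blocks.SemidihedralDefect

open Cfsg Cfsg.Lib.Chars Cfsg.Lib.Blocks
open Cfsg.Lib.Blocks.Star (isClassFunction_secFn)
open Cfsg.Lib.Blocks.QuaternionDefect (lift sect sectCoef_int regRed_linear odd_regRed_iff
  exists_conj_mem_of_weight sectWeight_conj)
open scoped Classical ComplexConjugate

universe u

local notation "C⟨" P "⟩" => Subgroup.centralizer (SetLike.coe P)

/-- A block of defect two and regular rank one with central defect group. -/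
lemma regRed_eq_one {H : Type u} [Group H] [Fintype H] {M : Ideal AlgInt} (hM : IsPModular 2 M)
    {f : Set (IrrCharacter H)} (hf : IsPBlock M f) (hd : blockDefect 2 f = 2)
    (hl : blockRank 2 f = 1) :
    (Finset.univ.filter (· ∈ f)).card = 4 ∧
      (∀ φ ∈ f, ∀ φ' ∈ f, regRed 2 f φ φ' = 1) ∧
      ∀ φ ∈ f, ∀ φ' ∈ f, ∀ w : H, ¬ 2 ∣ orderOf w → (φ : H → ℂ) w = (φ' : H → ℂ) w := by
  haveI : Fact (Nat.Prime 2) := ⟨Nat.prime_two⟩
  set T := Finset.univ.filter (· ∈ f) with hT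
  obtain ⟨φ₀, d, -, hreg, hsum⟩ := exists_of_blockRank_one hM hf hl
  rw [finsum_mem_eq_sum_of_inter_support_eq _ (t := T) (by simp [hT]), hd] at hsum
  have hmem : ∀ χ, χ ∈ T ↔ χ ∈ f := fun χ => by simp [hT]
  have hpos : ∀ χ ∈ T, 1 ≤ d χ := by
    intro χ hχ
    by_contra h0
    have h := hreg χ ((hmem χ).1 hχ) 1
      (show ¬ 2 ∣ orderOf (1 : H) by simp)
    rw [show d χ = 0 by omega, Nat.cast_zero, zero_mul] at h
    exact IsIrrCharacter.apply_one_ne_zero χ.2 h
  have htrace : ∑ χ ∈ T, regRed 2 f χ χ = 4 := by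
    apply Int.cast_injective (α := ℂ)
    push_cast
    rw [Finset.sum_congr rfl fun χ hχ =>
      (pow_blockDefect_mul_classInner hM hf χ ((hmem χ).1 hχ)).symm, ← Finset.mul_sum,
      sum_classInner_eq_blockRank hM hf, hl, hd]
    norm_num
  have hone : ∀ χ ∈ T, d χ = 1 := by
    intro χ hχ
    by_contra hne
    have h2 : 2 ≤ d χ := by have := hpos χ hχ; omega
    have honly : T = {χ} := by
      refine Finset.eq_singleton_iff_unique_mem.2 ⟨hχ, fun ψ hψ => ?_⟩
      by_contra hψne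
      have h := Finset.sum_le_sum_of_subset (f := fun a => d a ^ 2)
        (show ({χ, ψ} : Finset (IrrCharacter H)) ⊆ T by
          simp [Finset.insert_subset_iff, hχ, hψ])
      rw [hsum, Finset.sum_pair (Ne.symm hψne)] at h
      have := Nat.pow_le_pow_left h2 2
      have := Nat.one_le_pow 2 _ (hpos ψ hψ)
      omega
    obtain ⟨θ₀, hθ₀, hθ0⟩ := exists_height_zero hM hf
    obtain rfl : θ₀ = χ := by
      have := (hmem θ₀).2 hθ₀
      rwa [honly, Finset.mem_singleton] at this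
    have hodd := (odd_regRed_iff hM hf hθ₀ hθ₀).2 ⟨hθ0, hθ0⟩
    rw [honly, Finset.sum_singleton] at htrace
    rw [htrace] at hodd
    exact absurd hodd (by decide)
  have hcard : T.card = 4 := by
    rw [Finset.sum_congr rfl fun χ hχ => by rw [hone χ hχ, one_pow]] at hsum
    simpa using hsum
  have hval : ∀ φ ∈ f, ∀ φ' ∈ f, ∀ w : H, ¬ 2 ∣ orderOf w →
      (φ : H → ℂ) w = (φ' : H → ℂ) w := fun φ hφ φ' hφ' w hw => by
    rw [hreg φ hφ w hw, hreg φ' hφ' w hw, hone φ ((hmem φ).2 hφ), hone φ' ((hmem φ').2 hφ')]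
  refine ⟨hcard, ?_, hval⟩
  have hrow : ∀ φ ∈ f, ∀ φ' ∈ f, ∀ ψ ∈ f, regRed 2 f φ ψ = regRed 2 f φ' ψ :=
    fun φ hφ φ' hφ' ψ hψ => by
      rw [regRed_linear hM hf (Finset.univ : Finset Unit) (fun _ => 1) (fun _ => φ') φ
        (fun w hw => by simp [hval φ hφ φ' hφ' w hw]) hψ]
      simp
  intro φ hφ φ' hφ'
  have hconst : ∀ a ∈ T, regRed 2 f a a = regRed 2 f φ φ' := by
    intro a ha
    rw [hrow a ((hmem a).1 ha) φ hφ a ((hmem a).1 ha), regRed_symm Nat.prime_two φ a,
      hrow a ((hmem a).1 ha) φ' hφ' φ hφ, regRed_symm Nat.prime_two φ' φ]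
  rw [Finset.sum_congr rfl hconst, Finset.sum_const, hcard, nsmul_eq_mul] at htrace
  push_cast at htrace
  omega

/-- An element of a subgroup fixes the subgroup's pairs. -/
lemma cj_bi_of_mem {G : Type u} [Group G] [Fintype G] {M : Ideal AlgInt} {D : Subgroup G}
    (c : Set (IrrCharacter C⟨D⟩)) {d : G} (hd : d ∈ D) :
    cj d (bi M C⟨D⟩ c) = bi M C⟨D⟩ c := by
  refine fn_ext fun a => ?_
  rw [fn_cj]
  by_cases ha : a ∈ C⟨D⟩
  · rw [show d⁻¹ * a * d = a by
      rw [mul_assoc, ← Subgroup.mem_centralizer_iff.1 ha d hd, inv_mul_cancel_left]]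
  · have h : d⁻¹ * a * d ∉ C⟨D⟩ := fun h => ha (by
      have h' := Subgroup.mem_centralizer_iff.1 h d hd
      have e' : d⁻¹ * a * d = a :=
        mul_right_cancel (b := d) (h'.symm.trans (by group))
      rwa [e'] at h)
    rw [suppOn_bi c a ha, suppOn_bi c _ h]

section Tau

variable {G : Type u} [Group G] [Fintype G] {M : Ideal AlgInt} {β : Set (IrrCharacter G)}
  {D : Subgroup G} [Fintype D] {σ τ : D} {g : ℕ}
  (hM : IsPModular 2 M) (hβ : IsPBlock M β) (hD : IsDefectGroup 2 M β D) (S : SDih σ τ g)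
  (hz : ((σ ^ (2 * g) : D) : G) ∈ Subgroup.center G)

lemma order_tau (S : SDih σ τ g) : orderOf (τ : G) = 2 := by
  rw [Subgroup.orderOf_coe]
  exact orderOf_eq_prime (by rw [pow_two, S.sq]) fun e => S.out (e ▸ one_mem _)

lemma tau_ne_z (S : SDih σ τ g) : (τ : G) ≠ ((σ ^ (2 * g) : D) : G) := fun e =>
  S.out (by rw [Subtype.ext e]; exact Subgroup.pow_mem _ (Subgroup.mem_zpowers σ) _)

include S hz

/-- An involution of the defect group other than the central one is conjugate to `τ` in it. -/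
lemma conj_to_tau {u : G} (hu : u ∈ D) (ho : orderOf u = 2)
    (hne : u ≠ ((σ ^ (2 * g) : D) : G)) : ∃ d ∈ D, d * u * d⁻¹ = (τ : G) := by
  have ho' : orderOf (⟨u, hu⟩ : D) = 2 := by rwa [Subgroup.orderOf_mk]
  obtain ⟨d, hd⟩ := S.conj_tau (u := ⟨u, hu⟩)
    (fun e => by simp [congrArg orderOf e] at ho') fun hmem => hne <| by
      obtain ⟨j, hj⟩ := Subgroup.mem_zpowers_iff.1 hmem
      rw [← zpow_mod_orderOf, ho'] at hj
      rcases Int.emod_two_eq_zero_or_one j with e | e <;>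
        rw [show j % ((2 : ℕ) : ℤ) = _ from e] at hj
      · have := S.axis.z_order
        rw [← hj, zpow_zero, orderOf_one] at this
        omega
      · rw [zpow_one] at hj
        exact congrArg Subtype.val hj
  exact ⟨d, d.2, congrArg Subtype.val hd⟩

lemma conj_z (x : G) : x * ((σ ^ (2 * g) : D) : G) * x⁻¹ = ((σ ^ (2 * g) : D) : G) := by
  rw [Subgroup.mem_center_iff.1 hz x, mul_inv_cancel_right]

include hM hβ hD

/-- The blocks of the centralizer of `τ` inducing the block have central defect group of order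
four. -/
theorem tau_block {f : Set (IrrCharacter C⟨Subgroup.zpowers (τ : G)⟩)}
    (hf : IsInducedBlock M C⟨Subgroup.zpowers (τ : G)⟩ f β) :
    blockDefect 2 f = 2 ∧ blockRank 2 f = 1 := by
  haveI : Fact (Nat.Prime 2) := ⟨Nat.prime_two⟩
  set z : G := ((σ ^ (2 * g) : D) : G) with hzdef
  have hto : orderOf (τ : G) = 2 := order_tau S
  have hzo : orderOf z = 2 := by rw [hzdef, Subgroup.orderOf_coe, S.axis.z_order]
  have hzH : z ∈ C⟨Subgroup.zpowers (τ : G)⟩ := (DihedralDefect.mem_C_iff (z := (τ : G)) z).2 (Subgroup.mem_center_iff.1 hz (τ : G)).symm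
  set tc : C⟨Subgroup.zpowers (τ : G)⟩ := QuaternionDefect.zc (τ : G) with htc
  set zc' : C⟨Subgroup.zpowers (τ : G)⟩ := ⟨z, hzH⟩ with hzc'
  have htcc : tc ∈ Subgroup.center C⟨Subgroup.zpowers (τ : G)⟩ := QuaternionDefect.zc_center (τ : G)
  have hzcc : zc' ∈ Subgroup.center C⟨Subgroup.zpowers (τ : G)⟩ :=
    Subgroup.mem_center_iff.2 fun a => Subtype.ext (Subgroup.mem_center_iff.1 hz (a : G))
  obtain ⟨E, hE⟩ := exists_defectGroup hM hf.1
  have hin : ∀ c : C⟨Subgroup.zpowers (τ : G)⟩, c ∈ Subgroup.center C⟨Subgroup.zpowers (τ : G)⟩ → orderOf c = 2 → c ∈ E := by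
    intro c hc ho
    haveI : (Subgroup.zpowers c).Normal := ⟨fun a ha x => by
      rw [Subgroup.mem_center_iff.1 ((Subgroup.zpowers_le.2 hc) ha) x, mul_inv_cancel_right]
      exact ha⟩
    exact normal_le_defectGroup hM (IsPGroup.of_card (n := 1)
      (by rw [Nat.card_zpowers, ho, pow_one])) hf.1 hE (Subgroup.mem_zpowers c)
  have htE : tc ∈ E := hin tc htcc (by rw [← Subgroup.orderOf_coe]; exact hto)
  have hzE : zc' ∈ E := hin zc' hzcc (by rw [← Subgroup.orderOf_coe]; exact hzo)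
  obtain ⟨D', hD', hle⟩ := exists_defectGroup_ge_of_induced hM C⟨Subgroup.zpowers (τ : G)⟩ hf hE
  obtain ⟨a, ha⟩ := IsDefectGroup.exists_eq_conj hM hβ hD' hD
  have hmem : ∀ e ∈ E, a * (e : G) * a⁻¹ ∈ D := fun e he =>
    (SetLike.ext_iff.1 ha _).2 ⟨(e : G), hle ⟨e, he, rfl⟩, rfl⟩
  obtain ⟨d, hd, hdt⟩ := conj_to_tau S hz (hmem tc htE)
    (by rw [← MulAut.conj_apply, MulEquiv.orderOf_eq]; exact hto) fun e => tau_ne_z S <| by
      rw [show (tc : G) = (τ : G) from rfl, ← conj_z S hz a] at e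
      exact mul_left_cancel (mul_right_cancel e)
  have hE4 : ∀ e ∈ E, e = 1 ∨ e = zc' ∨ e = tc ∨ e = tc * zc' := by
    intro e he
    have hw : d * (a * (e : G) * a⁻¹) * d⁻¹ ∈ D :=
      D.mul_mem (D.mul_mem hd (hmem e he)) (D.inv_mem hd)
    have hcomm : (e : G) * (τ : G) = (τ : G) * (e : G) := (DihedralDefect.mem_C_iff (z := (τ : G)) (e : G)).1 e.2
    have hcD : (⟨_, hw⟩ : D) * τ = τ * ⟨_, hw⟩ := Subtype.ext (by
      show d * (a * (e : G) * a⁻¹) * d⁻¹ * (τ : G) = (τ : G) * (d * (a * (e : G) * a⁻¹) * d⁻¹)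
      calc d * (a * (e : G) * a⁻¹) * d⁻¹ * (τ : G)
          = d * (a * (e : G) * a⁻¹) * d⁻¹ * (d * (a * (τ : G) * a⁻¹) * d⁻¹) := by
            rw [show d * (a * (τ : G) * a⁻¹) * d⁻¹ = (τ : G) from hdt]
        _ = d * (a * ((e : G) * (τ : G)) * a⁻¹) * d⁻¹ := by group
        _ = d * (a * ((τ : G) * (e : G)) * a⁻¹) * d⁻¹ := by rw [hcomm]
        _ = d * (a * (τ : G) * a⁻¹) * d⁻¹ * (d * (a * (e : G) * a⁻¹) * d⁻¹) := by group
        _ = (τ : G) * (d * (a * (e : G) * a⁻¹) * d⁻¹) := by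
            rw [show d * (a * (τ : G) * a⁻¹) * d⁻¹ = (τ : G) from hdt])
    have hinj : ∀ x y : G, d * (a * x * a⁻¹) * d⁻¹ = d * (a * y * a⁻¹) * d⁻¹ → x = y :=
      fun x y e => mul_left_cancel (mul_right_cancel (mul_left_cancel (mul_right_cancel e)))
    have hz' : d * (a * z * a⁻¹) * d⁻¹ = z := by rw [conj_z S hz a, conj_z S hz d]
    rcases S.centralizer_tau hcD with e' | e' | e' | e' <;>
      have e'' := congrArg Subtype.val e' <;> dsimp only at e''
    · refine Or.inl (Subtype.ext (hinj _ 1 ?_))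
      rw [e'']
      simp
    · refine Or.inr (Or.inl (Subtype.ext (hinj _ z ?_)))
      rw [e'', hz']
    · refine Or.inr (Or.inr (Or.inl (Subtype.ext (hinj _ (τ : G) ?_))))
      rw [e'']
      exact hdt.symm
    · refine Or.inr (Or.inr (Or.inr (Subtype.ext (hinj _ ((τ : G) * z) ?_))))
      rw [e'', Subgroup.coe_mul, ← hzdef]
      calc (τ : G) * z = (d * (a * (τ : G) * a⁻¹) * d⁻¹) * (d * (a * z * a⁻¹) * d⁻¹) := by
            rw [hz', show d * (a * (τ : G) * a⁻¹) * d⁻¹ = (τ : G) from hdt]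
        _ = d * (a * ((τ : G) * z) * a⁻¹) * d⁻¹ := by group
  have hEc : E ≤ Subgroup.center C⟨Subgroup.zpowers (τ : G)⟩ := fun e he => by
    rcases hE4 e he with rfl | rfl | rfl | rfl
    · exact one_mem _
    · exact hzcc
    · exact htcc
    · exact Subgroup.mul_mem _ htcc hzcc
  have hcard : Nat.card E = 4 := by
    have hset : (Finset.univ.filter (· ∈ E)) = {1, zc', tc, tc * zc'} := by
      ext e
      simp only [Finset.mem_filter, Finset.mem_univ, true_and, Finset.mem_insert,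
        Finset.mem_singleton]
      refine ⟨hE4 e, ?_⟩
      rintro (rfl | rfl | rfl | rfl)
      exacts [one_mem _, hzE, htE, Subgroup.mul_mem _ htE hzE]
    rw [Nat.card_eq_fintype_card, Fintype.card_subtype, hset]
    have h1 : zc' ≠ 1 := fun e => by
      have h := hzo
      rw [show z = 1 from congrArg Subtype.val e, orderOf_one] at h
      omega
    have h2 : tc ≠ 1 := fun e => by
      have h := hto
      rw [show (τ : G) = 1 from congrArg Subtype.val e, orderOf_one] at h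
      omega
    have h3 : zc' ≠ tc := fun e => tau_ne_z S (congrArg Subtype.val e).symm
    have h4 : tc * zc' ≠ 1 := fun e => h3 (by
      rw [eq_inv_of_mul_eq_one_right e]
      exact inv_eq_of_mul_eq_one_right (QuaternionDefect.zc_sq hto))
    simp [h1.symm, h2.symm, h3, h4.symm, h1, h2]
  refine ⟨?_, blockRank_central hM hf.1 hE hEc⟩
  have h := IsDefectGroup.card hM hf.1 hE
  rw [hcard] at h
  exact (Nat.pow_right_injective le_rfl (show 2 ^ 2 = 2 ^ blockDefect 2 f from h)).symm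

/-- Only one block of the centralizer of `τ` induces the block. -/
theorem tau_unique {f f' : Set (IrrCharacter C⟨Subgroup.zpowers (τ : G)⟩)}
    (hf : IsInducedBlock M C⟨Subgroup.zpowers (τ : G)⟩ f β)
    (hf' : IsInducedBlock M C⟨Subgroup.zpowers (τ : G)⟩ f' β) : f = f' := by
  haveI : Fact (Nat.Prime 2) := ⟨Nat.prime_two⟩
  set z : G := ((σ ^ (2 * g) : D) : G) with hzdef
  have hto : orderOf (τ : G) = 2 := order_tau S
  have hWp : IsPGroup 2 (Subgroup.zpowers (τ : G)) := IsPGroup.of_card (n := 1) (by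
    rw [Nat.card_zpowers, hto, pow_one])
  obtain ⟨c, hc⟩ := exists_pair_of_defect hM hβ hD
  obtain ⟨f₀, -, huniq⟩ := existsUnique_subpairLE hM hc.1.1
    (show Subgroup.zpowers (τ : G) ≤ D from Subgroup.zpowers_le.2 τ.2)
  have key : ∀ f : Set (IrrCharacter C⟨Subgroup.zpowers (τ : G)⟩),
      IsInducedBlock M C⟨Subgroup.zpowers (τ : G)⟩ f β → f = f₀ := by
    intro f hf
    obtain ⟨x, hx⟩ := exists_conj_subpairLE hM hc
      ((isBrauerPairOf_iff hM β (Subgroup.zpowers (τ : G)) f).2 ⟨hWp, hf⟩)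
    have htD : x * (τ : G) * x⁻¹ ∈ D := subpairLE_le hx ⟨(τ : G), Subgroup.mem_zpowers (τ : G), rfl⟩
    obtain ⟨d, hd, hdt⟩ := conj_to_tau S hz htD
      (by rw [← MulAut.conj_apply, MulEquiv.orderOf_eq, hto]) fun e => tau_ne_z S <| by
        rw [← conj_z S hz x] at e
        exact mul_left_cancel (mul_right_cancel e)
    have hy : (d * x) * (τ : G) * (d * x)⁻¹ = (τ : G) := by
      calc (d * x) * (τ : G) * (d * x)⁻¹ = d * (x * (τ : G) * x⁻¹) * d⁻¹ := by group
        _ = (τ : G) := hdt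
    have hxC : d * x ∈ C⟨Subgroup.zpowers (τ : G)⟩ := by
      rw [DihedralDefect.mem_C_iff]
      calc (d * x) * (τ : G) = (d * x) * (τ : G) * (d * x)⁻¹ * (d * x) := by group
        _ = (τ : G) * (d * x) := by rw [hy]
    refine huniq f ?_
    have h1 := subpairLE_conj hM hx d
    have hidxc : conjIdx d ⟨D, c⟩ = (⟨D, c⟩ : BrauerPairIdx G) := by
      refine idx_ext hM (map_conj_of_mem_normalizer (Subgroup.le_normalizer hd))
        (isPBlock_conjBlock _ _ hc.1.1.2) hc.1.1.2 ?_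
      show bi M _ (conjBlock D d c) = _
      rw [bi_conjBlock]
      exact cj_bi_of_mem c hd
    have hidx : conjIdx d (conjIdx x ⟨Subgroup.zpowers (τ : G), f⟩) =
        (⟨Subgroup.zpowers (τ : G), f⟩ : BrauerPairIdx G) := by
      refine idx_ext hM ?_ (isPBlock_conjBlock _ _ (isPBlock_conjBlock _ _ hf.1)) hf.1 ?_
      · show ((Subgroup.zpowers (τ : G)).map (MulAut.conj x).toMonoidHom).map
          (MulAut.conj d).toMonoidHom = Subgroup.zpowers (τ : G)
        rw [map_conj_map, MonoidHom.map_zpowers]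
        show Subgroup.zpowers (MulAut.conj (d * x) (τ : G)) = _
        rw [MulAut.conj_apply, hy]
      · show bi M _ (conjBlock _ d (conjBlock (Subgroup.zpowers (τ : G)) x f)) = _
        rw [bi_conjBlock, bi_conjBlock, cj_cj]
        exact invOn_iff.1 (invOn_bi f) (d * x) hxC
    change Relation.ReflTransGen (NormalSubpairRel 2 M)
      (conjIdx d (conjIdx x ⟨Subgroup.zpowers (τ : G), f⟩)) (conjIdx d ⟨D, c⟩) at h1
    rw [hidx, hidxc] at h1
    exact h1
  rw [key f hf, key f' hf']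

/-- Some block of the centralizer of `τ` induces the block. -/
theorem tau_exists : ∃ f : Set (IrrCharacter C⟨Subgroup.zpowers (τ : G)⟩),
    IsInducedBlock M C⟨Subgroup.zpowers (τ : G)⟩ f β := by
  haveI : Fact (Nat.Prime 2) := ⟨Nat.prime_two⟩
  obtain ⟨c, hc⟩ := exists_pair_of_defect hM hβ hD
  obtain ⟨f, hf, -⟩ := existsUnique_subpairLE hM hc.1.1
    (show Subgroup.zpowers (τ : G) ≤ D from Subgroup.zpowers_le.2 τ.2)
  exact ⟨f, ((isBrauerPairOf_iff hM β _ f).1 (isBrauerPairOf_of_le hM hc hf)).2⟩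

/-- A member of the block on the section of `τ`. -/
theorem apply_tau_section {f : Set (IrrCharacter C⟨Subgroup.zpowers (τ : G)⟩)}
    (hf : IsInducedBlock M C⟨Subgroup.zpowers (τ : G)⟩ f β) {φ₀ : IrrCharacter C⟨Subgroup.zpowers (τ : G)⟩}
    (hφ₀ : φ₀ ∈ f) {θ : IrrCharacter G} (hθ : θ ∈ β)
    {w : C⟨Subgroup.zpowers (τ : G)⟩} (hw : ¬ 2 ∣ orderOf w) :
    (θ : G → ℂ) ((τ : G) * (w : G)) =
      (lift (order_tau S) f (fun _ => 1) θ : ℂ) * (φ₀ : C⟨Subgroup.zpowers (τ : G)⟩ → ℂ) w := by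
  haveI : Fact (Nat.Prime 2) := ⟨Nat.prime_two⟩
  obtain ⟨hd, hl⟩ := tau_block hM hβ hD S hz hf
  obtain ⟨-, -, hval⟩ := regRed_eq_one hM hf.1 hd hl
  have hx : ∃ k : ℕ, orderOf (τ : G) = 2 ^ k := ⟨1, by rw [order_tau S, pow_one]⟩
  have hcl : IsClassFunction C⟨Subgroup.zpowers (τ : G)⟩
      (fun c : C⟨Subgroup.zpowers (τ : G)⟩ => (θ : G → ℂ) ((τ : G) * (c : G))) :=
    isClassFunction_secFn _ (isClassFunction_irr θ)
  refine (sum_blockPart hM hcl w).symm.trans ?_
  rw [Finset.sum_eq_single f (fun b hb hne => blockPart_translate_eq_zero hM hx rfl hβ hθ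
      ((mem_blocksFinset hM).1 hb) (fun h => hne (tau_unique hM hβ hD S hz h hf)) w hw)
    (fun h => absurd ((mem_blocksFinset hM).2 hf.1) h), blockPart_eq_sum, lift]
  push_cast
  rw [Finset.sum_mul]
  refine Finset.sum_congr rfl fun φ hφ => ?_
  rw [hval φ (Finset.mem_filter.1 hφ).2 φ₀ hφ₀ w hw, mul_one]
  exact congrArg (· * _) (sectCoef_int (order_tau S) θ φ)

/-- A singular element outside the sections of the elements having `z` as a power, at which some
member does not vanish, lies in the section of `τ`. -/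
theorem exists_tau_section {θ : IrrCharacter G} (hθ : θ ∈ β) {a : G} (hreg : 2 ∣ orderOf a)
    (hne : (θ : G → ℂ) a ≠ 0) (hza : ((σ ^ (2 * g) : D) : G) ∉ Subgroup.zpowers a) :
    ∃ (r : G) (w : C⟨Subgroup.zpowers (τ : G)⟩), ¬ 2 ∣ orderOf w ∧
      r * a * r⁻¹ = (τ : G) * (w : G) := by
  haveI : Fact (Nat.Prime 2) := ⟨Nat.prime_two⟩
  set z : G := ((σ ^ (2 * g) : D) : G) with hzdef
  obtain ⟨s, ht⟩ := exists_isPPart (p := 2) Nat.prime_two a
  set u := a ^ s with hudef
  obtain ⟨D', hD', hu⟩ : ∃ D', IsDefectGroup 2 M β D' ∧ u ∈ D' := by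
    by_contra hno
    push Not at hno
    exact hne (apply_eq_zero_of_forall_not_mem hM hβ hθ ht hno)
  obtain ⟨x, hx⟩ := IsDefectGroup.exists_eq_conj hM hβ hD' hD
  have hxu : x * u * x⁻¹ ∈ D := hx ▸ ⟨u, hu, rfl⟩
  have hu1 : (⟨_, hxu⟩ : D) ≠ 1 := fun e => by
    have e' := congrArg Subtype.val e
    simp only [OneMemClass.coe_one, conj_eq_one_iff] at e'
    rw [e'] at ht
    exact (isPPart_one_iff Nat.prime_two).1 ht hreg
  obtain ⟨d, hd⟩ := S.conj_tau hu1 fun hmem => hza <| by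
    obtain ⟨j, hj⟩ := Subgroup.mem_zpowers_iff.1 hmem
    have hj' : (x * u * x⁻¹) ^ j = z := congrArg Subtype.val hj
    rw [← MulAut.conj_apply, ← map_zpow, MulAut.conj_apply, mul_inv_eq_iff_eq_mul,
      ← Subgroup.mem_center_iff.1 hz x] at hj'
    exact Subgroup.mem_zpowers_iff.2 ⟨(s : ℤ) * j, by
      rw [zpow_mul, zpow_natCast]; exact mul_left_cancel hj'⟩
  set r := (d : G) * x with hr
  have hrt : r * u * r⁻¹ = (τ : G) := by
    have e : (d : G) * (x * u * x⁻¹) * (d : G)⁻¹ = (τ : G) := congrArg Subtype.val hd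
    rw [hr]
    calc _ = (d : G) * (x * u * x⁻¹) * (d : G)⁻¹ := by group
      _ = _ := e
  obtain ⟨y, hy, hcomm, -, hodd⟩ := ht
  have hwt : r * y * r⁻¹ * (τ : G) = (τ : G) * (r * y * r⁻¹) := by
    calc r * y * r⁻¹ * (τ : G) = r * (y * u) * r⁻¹ := by rw [← hrt]; group
      _ = r * (u * y) * r⁻¹ := by rw [hcomm.eq]
      _ = (τ : G) * (r * y * r⁻¹) := by rw [← hrt]; group
  refine ⟨r, ⟨r * y * r⁻¹, (DihedralDefect.mem_C_iff (z := (τ : G)) _).2 hwt⟩, ?_, ?_⟩
  · rwa [Subgroup.orderOf_mk, ← MulAut.conj_apply, MulEquiv.orderOf_eq]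
  · show r * a * r⁻¹ = (τ : G) * (r * y * r⁻¹)
    rw [← hrt, ← hy]
    group

/-- The weight off the sections of the elements having `z` as a power. -/
theorem sum_sectWeight_off :
    ∑ x ∈ (pElements 2 G).filter (fun x => ((σ ^ (2 * g) : D) : G) ∉ Subgroup.zpowers x),
      sectWeight 2 M β (Subgroup.centralizer ({x} : Set G)) = Nat.card G := by
  haveI : Fact (Nat.Prime 2) := ⟨Nat.prime_two⟩
  set z : G := ((σ ^ (2 * g) : D) : G) with hzdef
  set t : G := (τ : G) with htdef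
  have hto : orderOf t = 2 := order_tau S
  obtain ⟨f, hf⟩ := tau_exists hM hβ hD S hz
  have hwt : sectWeight 2 M β (Subgroup.centralizer ({t} : Set G)) =
      Nat.card (Subgroup.centralizer ({t} : Set G)) := by
    rw [← centralizer_zpowers, sectWeight_eq, Finset.sum_eq_single f
      (fun b hb hne => absurd (tau_unique hM hβ hD S hz (Finset.mem_filter.1 hb).2 hf) hne)
      (fun h => absurd (Finset.mem_filter.2 ⟨(mem_blocksFinset hM).2 hf.1, hf⟩) h),
      (tau_block hM hβ hD S hz hf).2, Nat.cast_one, mul_one]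
  set T := (pElements 2 G).filter (fun x => z ∉ Subgroup.zpowers x) with hT
  have hclass : ∀ x, IsConj t x → x ∈ T := by
    intro x hx
    obtain ⟨r, hr⟩ := isConj_iff.1 hx
    have ho : orderOf x = 2 := by rw [← hr, ← MulAut.conj_apply, MulEquiv.orderOf_eq, hto]
    refine Finset.mem_filter.2 ⟨mem_pElements.2 ⟨fun e => ?_, 1, by rw [ho, pow_one]⟩, fun hmem => ?_⟩
    · rw [e, orderOf_one] at ho
      omega
    · obtain ⟨j, hj⟩ := Subgroup.mem_zpowers_iff.1 hmem
      rw [← zpow_mod_orderOf, ho] at hj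
      rcases Int.emod_two_eq_zero_or_one j with e | e <;>
        rw [show j % ((2 : ℕ) : ℤ) = _ from e] at hj
      · have := S.axis.z_order
        rw [← Subgroup.orderOf_coe, ← hzdef, ← hj, zpow_zero, orderOf_one] at this
        omega
      · rw [zpow_one, ← hr] at hj
        exact tau_ne_z S (mul_left_cancel (mul_right_cancel (hj.trans (conj_z S hz r).symm)))
  rw [← Finset.sum_subset (s₁ := Finset.univ.filter (IsConj t))
    (fun x hx => hclass x (Finset.mem_filter.1 hx).2) fun x hx hnx => ?_]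
  swap
  · by_contra hne
    obtain ⟨h1, h2⟩ := Finset.mem_filter.1 hx
    obtain ⟨hx1, hxk⟩ := mem_pElements.1 h1
    obtain ⟨r, hr⟩ := exists_conj_mem_of_weight hM hβ hD hxk hne
    have hu1 : (⟨_, hr⟩ : D) ≠ 1 := fun e => hx1 (by
      have e' := congrArg Subtype.val e
      rwa [OneMemClass.coe_one, conj_eq_one_iff] at e')
    obtain ⟨d, hd⟩ := S.conj_tau hu1 fun hmem => h2 <| by
      obtain ⟨j, hj⟩ := Subgroup.mem_zpowers_iff.1 hmem
      have hj' : (r * x * r⁻¹) ^ j = z := congrArg Subtype.val hj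
      rw [← MulAut.conj_apply, ← map_zpow, MulAut.conj_apply, mul_inv_eq_iff_eq_mul,
        ← Subgroup.mem_center_iff.1 hz r] at hj'
      exact Subgroup.mem_zpowers_iff.2 ⟨j, mul_left_cancel hj'⟩
    refine hnx (Finset.mem_filter.2 ⟨Finset.mem_univ _,
      (isConj_iff.2 ⟨(d : G) * r, ?_⟩ : IsConj x t).symm⟩)
    have e : (d : G) * (r * x * r⁻¹) * (d : G)⁻¹ = (τ : G) := congrArg Subtype.val hd
    rw [htdef, ← e]
    group
  rw [Finset.sum_congr rfl fun x hx => show _ = (Nat.card (Subgroup.centralizer ({t} : Set G)) : ℤ) by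
    obtain ⟨r, hr⟩ := isConj_iff.1 (Finset.mem_filter.1 hx).2
    rw [← hr, sectWeight_conj hM hβ ⟨1, by rw [hto, pow_one]⟩, hwt],
    Finset.sum_const, nsmul_eq_mul, ← Fintype.card_subtype, ← Nat.card_eq_fintype_card]
  exact_mod_cast card_isConj_mul t

end Tau

end Cfsg.Lib.Blocks.SemidihedralDefect
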