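import Mathlib
import Cfsg.Agent.Blocks.SemidihedralDefect.TauSection

/-!
# The short vector of a semidihedral block of rank one with central involution

When the regular matrix has rank one the section of the noncentral involution supplies a vector
of length four orthogonal to the rows, and with it a combination of the block living on the
elements having the central involution as a power.
-/

set_option autoImplicit false
set_option linter.unusedSectionVars false
set_option linter.style.haveILetI false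

namespace Cfsg.Lib.Blocks.SemidihedralDefect

open Cfsg Cfsg.Lib.Chars Cfsg.Lib.Blocks
open Cfsg.Lib.Blocks.QuaternionDefect (lift sect Loc CentreRows CentreData Shape card_ge
  exists_loc_centre lift_inner sum_mul_lift sum_apply_eq_zero sum_apply_singular_mul_regRed)
open scoped Classical ComplexConjugate

universe u

local notation "C⟨" P "⟩" => Subgroup.centralizer (SetLike.coe P)

/-- Four odd coordinates with sum zero whose weighted length is `4 g`. -/
lemma odd_coords {g : ℕ} (hg : Even g) (hg0 : 1 ≤ g) {p q r t : ℤ} (hp : Odd p) (hq : Odd q)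
    (hr : Odd r) (h0 : p + q + r + t = 0)
    (hn : p * p + q * q + r * r + t * t + ((g - 1 : ℕ) : ℤ) * ((p + q) * (p + q)) = 4 * g) :
    (p = 1 ∨ p = -1) ∧ q = p ∧ r = -p ∧ t = -p := by
  obtain ⟨a, rfl⟩ := hp
  obtain ⟨b, rfl⟩ := hq
  obtain ⟨c, rfl⟩ := hr
  obtain rfl : t = -(2 * a + 1 + (2 * b + 1) + (2 * c + 1)) := by omega
  obtain ⟨e, rfl⟩ := hg
  rw [Nat.cast_sub (by omega)] at hn
  push_cast at hn
  set P : ℤ := 2 * (a + b + 1) with hP
  have key : ((e : ℤ) + e) * (P * P) + (2 * (a - b) * (a - b) + 2 * (2 * c + a + b + 2) * (2 * c + a + b + 2)) =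
      4 * ((e : ℤ) + e) := by
    rw [hP]; linear_combination hn
  have he : (1 : ℤ) ≤ e := by omega
  have hPle : P * P ≤ 4 := by
    by_contra hlt
    nlinarith [mul_self_nonneg (a - b), mul_self_nonneg (2 * c + a + b + 2)]
  have hP3 : a + b + 1 = 0 ∨ a + b + 1 = 1 ∨ a + b + 1 = -1 := by
    rw [hP] at hPle
    have h1 : a + b + 1 ≤ 1 := by nlinarith
    have h2 : -1 ≤ a + b + 1 := by nlinarith
    omega
  rcases hP3 with h | h
  · exfalso
    obtain rfl : b = -a - 1 := by omega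
    rw [hP] at key
    ring_nf at key
    omega
  · have hP4 : P * P = 4 := by rw [hP]; rcases h with h | h <;> rw [h] <;> norm_num
    rw [hP4] at key
    have h1 := mul_self_nonneg (a - b)
    have h2 := mul_self_nonneg (2 * c + a + b + 2)
    have e1 : (a - b) * (a - b) = 0 := by linarith
    have e2 : (2 * c + a + b + 2) * (2 * c + a + b + 2) = 0 := by linarith
    rw [mul_self_eq_zero] at e1 e2
    omega

/-- A vector orthogonal to the rows is read off the four places. -/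
lemma exists_coords {ι : Type*} [DecidableEq ι] {T : Finset ι} {g : ℕ} {F : ℕ → ι → ℤ}
    (S : Shape T g F) (hT : T = S.H ∪ S.Y) (hg : 1 ≤ g) (x : ι → ℤ)
    (hx : ∀ s ∈ Finset.Icc 1 g, ∑ χ ∈ T, F s χ * x χ = 0) :
    ∃ A B C E : ℤ, A + B + C + E = 0 ∧ ∀ χ ∈ T, x χ = S.vec A B C E χ := by
  refine ⟨F g S.a * x S.a, F g S.b * x S.b, F g S.c * x S.c, F g S.d * x S.d, ?_, fun χ hχ => ?_⟩
  · have h := hx g (Finset.mem_Icc.2 ⟨hg, le_rfl⟩)
    rw [S.sum_top] at h
    exact h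
  · have hsq : ∀ v ∈ S.H, F g v * (F g v * x v) = x v := fun v hv => by
      rw [← mul_assoc, S.sq_one hv, one_mul]
    rw [hT, Finset.mem_union] at hχ
    rcases hχ with hχ | hχ
    · rcases S.mem_H.1 hχ with rfl | rfl | rfl | rfl
      · rw [S.vec_a]; exact (hsq _ hχ).symm
      · rw [S.vec_b]; exact (hsq _ hχ).symm
      · rw [S.vec_c]; exact (hsq _ hχ).symm
      · rw [S.vec_d]; exact (hsq _ hχ).symm
    · obtain ⟨s, hs, rfl⟩ := Finset.mem_image.1 hχ
      rw [S.vec_y _ _ _ _ hs]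
      have h := hx s (Finset.mem_Icc.2 ⟨(Finset.mem_Ico.1 hs).1, (Finset.mem_Ico.1 hs).2.le⟩)
      rw [S.sum_row _ hs] at h
      linear_combination (F s (S.y s)) * h - x (S.y s) * S.sq_y hs

variable {G : Type u} [Group G] [Fintype G] {M : Ideal AlgInt} {β : Set (IrrCharacter G)}
  {D : Subgroup G} [Fintype D] {σ τ : D} {g : ℕ}

/-- **The centre of a semidihedral block with central involution.** -/
theorem exists_centre_sd (hM : IsPModular 2 M) (hβ : IsPBlock M β)
    (hD : IsDefectGroup 2 M β D) (S : SDih σ τ g)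
    (hψ : ∀ {P : Type u} [Group P] [Fintype P] (e : D ≃* P),
      ∃ ψ : ℕ → P → ℂ, QuaternionDefect.PsiData (e σ) g ψ)
    (hz : ((σ ^ (2 * g) : D) : G) ∈ Subgroup.center G) :
    ∃ E : ℕ → IrrCharacter G → ℤ, CentreRows β ((σ ^ (2 * g) : D) : G) g E ∧
      ∃ C : CentreData β ((σ ^ (2 * g) : D) : G) g E, C.m ≤ 2 ∧
        (C.m = 0 → ∃ x : IrrCharacter G → ℤ,
          (∀ θ ∈ β, (Odd (x θ) ↔ blockHeight 2 β (θ : G → ℂ) = 0)) ∧
          ∑ θ ∈ Finset.univ.filter (· ∈ β), x θ * x θ ≤ 8 ∧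
          (∀ s ∈ Finset.Icc 1 g, ∑ θ ∈ Finset.univ.filter (· ∈ β), E (2 * s) θ * x θ = 0) ∧
          (∀ s, ∑ θ ∈ Finset.univ.filter (· ∈ β), E (2 * s + 1) θ * x θ = 0) ∧
          ∀ a : G, ((σ ^ (2 * g) : D) : G) ∉ Subgroup.zpowers a →
            ∑ θ ∈ Finset.univ.filter (· ∈ β), (x θ : ℂ) * (θ : G → ℂ) a = 0) := by
  haveI : Fact (Nat.Prime 2) := ⟨Nat.prime_two⟩
  obtain ⟨L, hF, hLz, hR, C, hC2⟩ := exists_loc_centre hM hβ hD S.axis hψ hz
  suffices h : C.m = 0 → ∃ x : IrrCharacter G → ℤ,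
      (∀ θ ∈ β, (Odd (x θ) ↔ blockHeight 2 β (θ : G → ℂ) = 0)) ∧
      ∑ θ ∈ Finset.univ.filter (· ∈ β), x θ * x θ ≤ 8 ∧
      (∀ s ∈ Finset.Icc 1 g, ∑ θ ∈ Finset.univ.filter (· ∈ β), L.ent (2 * s) θ * x θ = 0) ∧
      (∀ s, ∑ θ ∈ Finset.univ.filter (· ∈ β), L.ent (2 * s + 1) θ * x θ = 0) ∧
      ∀ a : G, L.z ∉ Subgroup.zpowers a →
        ∑ θ ∈ Finset.univ.filter (· ∈ β), (x θ : ℂ) * (θ : G → ℂ) a = 0 by
    rw [← hLz]
    exact ⟨L.ent, hR, C, hC2, h⟩
  intro hm
  set B := Finset.univ.filter (· ∈ β) with hB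
  have hg : 1 ≤ g := S.axis.pos
  have hto : orderOf (τ : G) = 2 := order_tau S
  obtain ⟨f, hf⟩ := tau_exists hM hβ hD S hz
  obtain ⟨hfd, hfl⟩ := tau_block hM hβ hD S hz hf
  obtain ⟨hfc, hfR, -⟩ := regRed_eq_one hM hf.1 hfd hfl
  obtain ⟨φ₀, hφ₀, -⟩ := exists_height_zero hM hf.1
  set x : IrrCharacter G → ℤ := lift hto f fun _ => 1 with hxdef
  have heig : ∀ θ ∈ f, ∑ θ' ∈ Finset.univ.filter (· ∈ f), regRed 2 f θ θ' * (1 : ℤ) =
      2 ^ blockDefect 2 f * 1 := fun θ hθ => by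
    rw [Finset.sum_congr rfl fun θ' hθ' => by rw [hfR θ hθ θ' (Finset.mem_filter.1 hθ').2],
      Finset.sum_const, hfc, hfd]
    norm_num
  have hxn : ∑ χ ∈ B, x χ * x χ = 4 := by
    rw [hB, hxdef, lift_inner hM hto hf heig heig]
    simp [hfc]
  -- the regular matrix has rank one
  have hexp : ∀ θ ∈ β, ∀ ψ ∈ β, regRed 2 β θ ψ = C.u θ * C.u ψ := fun θ hθ ψ hψ => by
    haveI : IsEmpty (Fin C.m) := hm ▸ (inferInstance : IsEmpty (Fin 0))
    rw [C.expand θ hθ ψ hψ]
    simp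
  obtain ⟨φ, hφT, hφ0⟩ := hF.height
  have hφβ := (L.mem_trivT.1 hφT).1
  have hu0 : C.u φ ≠ 0 := fun e => by simpa [e] using (C.paru φ hφβ).2 hφ0
  have hsing : ∀ a : G, 2 ∣ orderOf a → ∑ θ ∈ B, (C.u θ : ℂ) * (θ : G → ℂ) a = 0 := by
    intro a ha
    have h := sum_apply_singular_mul_regRed hM hβ ha hφβ
    rw [Finset.sum_congr rfl fun θ hθ => show _ = (C.u φ : ℂ) * ((C.u θ : ℂ) * (θ : G → ℂ) a) by
      rw [hexp θ (Finset.mem_filter.1 hθ).2 φ hφβ]; push_cast; ring, ← Finset.mul_sum] at h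
    exact (mul_eq_zero.1 h).resolve_left (Int.cast_ne_zero.2 hu0)
  -- the section of `τ`
  have hsec : ∀ c : C⟨Subgroup.zpowers (τ : G)⟩, ¬ 2 ∣ orderOf c →
      ((τ : G) * (c : G)) ^ orderOf c = (τ : G) ∧
        orderOf ((τ : G) * (c : G)) ∣ 2 * orderOf c := by
    intro c hc
    have hcomm : Commute (τ : G) (c : G) :=
      ((DihedralDefect.mem_C_iff (z := (τ : G)) (c : G)).1 c.2).symm
    have hc1 : (c : G) ^ orderOf c = 1 := by
      rw [← SubmonoidClass.coe_pow, pow_orderOf_eq_one, OneMemClass.coe_one]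
    refine ⟨?_, orderOf_dvd_of_pow_eq_one ?_⟩
    · rw [hcomm.mul_pow, hc1, mul_one, ← pow_mod_orderOf, hto,
        show orderOf c % 2 = 1 by omega, pow_one]
    · rw [hcomm.mul_pow, pow_mul (τ : G), ← hto, pow_orderOf_eq_one, one_pow, one_mul, mul_comm,
        pow_mul, hc1, one_pow]
  have hkillE : ∀ i (c : C⟨Subgroup.zpowers (τ : G)⟩), ¬ 2 ∣ orderOf c →
      ∑ χ ∈ B, (L.ent i χ : ℂ) * (χ : G → ℂ) ((τ : G) * (c : G)) = 0 := fun i c hc =>
    hR.order i _ fun h4 => by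
      have := h4.trans (hsec c hc).2
      omega
  have hxE : ∀ i, ∑ χ ∈ B, L.ent i χ * x χ = 0 := fun i =>
    sum_mul_lift hM hto hf _ (hkillE i) heig
  have hev : ∀ c : C⟨Subgroup.zpowers (τ : G)⟩, ¬ 2 ∣ orderOf c →
      2 ∣ orderOf ((τ : G) * (c : G)) := fun c hc => by
    have h := orderOf_pow_dvd (x := (τ : G) * (c : G)) (orderOf c)
    rw [(hsec c hc).1, hto] at h
    exact h
  have hxu : ∑ χ ∈ B, C.u χ * x χ = 0 :=
    sum_mul_lift hM hto hf _ (fun c hc => hsing _ (hev c hc)) heig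
  have hxsu : ∑ χ ∈ B, L.sgn χ * C.u χ * x χ = 0 := by
    refine sum_mul_lift hM hto hf _ (fun c hc => ?_) heig
    have hza : 2 ∣ orderOf (L.z * ((τ : G) * (c : G))) := by
      have hzc : Commute L.z ((τ : G) * (c : G)) := (Subgroup.mem_center_iff.1 L.z_center _).symm
      have h := orderOf_pow_dvd (x := L.z * ((τ : G) * (c : G))) (orderOf c)
      have hzo : L.z ^ orderOf c = L.z := by
        rw [← pow_mod_orderOf, L.order_z, show orderOf c % 2 = 1 by omega, pow_one]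
      rw [hzc.mul_pow, hzo, (hsec c hc).1] at h
      refine dvd_trans ?_ h
      have h2 : orderOf (L.z * (τ : G)) = 2 := by
        refine orderOf_eq_prime ?_ fun e => tau_ne_z S ?_
        · rw [pow_two, ← mul_assoc, mul_assoc L.z (τ : G), Subgroup.mem_center_iff.1 L.z_center (τ : G),
            ← mul_assoc, L.z_sq, one_mul, ← pow_two, ← hto, pow_orderOf_eq_one]
        · rw [← hLz]
          exact (eq_inv_of_mul_eq_one_right e).trans (inv_eq_of_mul_eq_one_right L.z_sq)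
      rw [h2]
    rw [← hsing _ hza]
    refine Finset.sum_congr rfl fun χ _ => ?_
    rw [apply_mul_central χ L.z_center, (L.sgn_spec χ).2,
      mul_div_cancel_right₀ _ (IsIrrCharacter.apply_one_ne_zero χ.2)]
    push_cast
    ring
  -- the lengths of `u` on either side
  set T := L.trivT with hTdef
  have hsplit : ∀ F : IrrCharacter G → ℤ, ∑ χ ∈ B, F χ = ∑ χ ∈ B \ T, F χ + ∑ χ ∈ T, F χ :=
    fun F => (Finset.sum_sdiff L.trivT_subset).symm
  have hout : ∀ χ ∈ B \ T, L.sgn χ = -1 := fun χ hχ => by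
    obtain ⟨h1, h2⟩ := Finset.mem_sdiff.1 hχ
    exact (L.sgn_spec χ).1.resolve_left fun e => h2 (L.mem_trivT.2 ⟨(Finset.mem_filter.1 h1).2, e⟩)
  have huT : ∑ χ ∈ T, C.u χ * C.u χ = 4 * g := by
    have h := L.regRed_sq hF hφβ hφβ
    rw [Finset.sum_congr rfl fun χ hχ => show _ = C.u φ * C.u φ * (C.u χ * C.u χ) by
      rw [hexp φ hφβ χ (L.mem_trivT.1 hχ).1, hexp χ (L.mem_trivT.1 hχ).1 φ hφβ]; ring,
      ← Finset.mul_sum, hexp φ hφβ φ hφβ] at h
    exact mul_left_cancel₀ (mul_ne_zero hu0 hu0) (h.trans (mul_comm _ _))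
  have huB : ∑ χ ∈ B \ T, C.u χ * C.u χ = 4 * g := by
    have h := C.normu
    rw [← hB, hsplit, huT] at h
    linarith
  obtain ⟨hxuT, hxuB⟩ : ∑ χ ∈ T, C.u χ * x χ = 0 ∧ ∑ χ ∈ B \ T, C.u χ * x χ = 0 := by
    rw [hsplit] at hxu hxsu
    rw [Finset.sum_congr rfl (s₁ := B \ T) fun χ hχ => show _ = -(C.u χ * x χ) by rw [hout χ hχ]; ring,
      Finset.sum_congr rfl (s₁ := T) fun χ hχ => show _ = C.u χ * x χ by
        rw [(L.mem_trivT.1 hχ).2, one_mul], Finset.sum_neg_distrib] at hxsu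
    constructor <;> linarith
  -- the vector vanishes where `z` is negative
  have hB1 : (B \ T).card = g := by
    rw [Finset.card_sdiff_of_subset L.trivT_subset, hF.card, ← Fintype.card_subtype,
      ← Nat.card_eq_fintype_card]
    have := C.card
    rw [hm] at this
    show Nat.card β - _ = _
    omega
  have hx0 : ∀ χ ∈ B \ T, x χ = 0 := by
    by_contra hne
    push Not at hne
    obtain ⟨χ₁, hχ₁, hne⟩ := hne
    have hN : ∑ χ ∈ B \ T, x χ * x χ ≠ 0 := fun h => hne (mul_self_eq_zero.1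
      ((Finset.sum_eq_zero_iff_of_nonneg fun a _ => mul_self_nonneg (x a)).1 h χ₁ hχ₁))
    have hodd1 : ∀ i (F : IrrCharacter G → ℤ),
        ∑ θ ∈ B \ T, L.ent (2 * i + 1) θ * F θ = ∑ θ ∈ B, L.ent (2 * i + 1) θ * F θ := fun i F => by
      rw [hsplit, Finset.sum_eq_zero (s := T) fun θ hθ => by rw [L.odd_inside hF hθ, zero_mul],
        add_zero]
    have hge := card_ge (B \ T) (g := g) (fun s θ => L.ent (2 * s + 1) θ) ![C.u, x]
      ![4 * (g : ℤ), ∑ χ ∈ B \ T, x χ * x χ]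
      (fun i hi j hj => (hodd1 i _).trans (L.gram_odd hi hj))
      (fun i _ a => by
        rw [hodd1]
        fin_cases a
        · exact C.perpu _
        · exact hxE _)
      (fun a b => by
        fin_cases a <;> fin_cases b <;>
          simp [huB, hxuB, (Finset.sum_congr rfl fun χ _ => mul_comm (x χ) (C.u χ)).trans hxuB])
      (fun a => by fin_cases a <;> simp [hN] <;> omega)
    omega
  have hxT : ∑ χ ∈ T, x χ * x χ = 4 := by
    rw [hsplit, Finset.sum_eq_zero fun χ hχ => by rw [hx0 χ hχ, zero_mul], zero_add] at hxn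
    exact hxn
  -- the coordinates
  obtain ⟨Sh, hSh⟩ := L.exists_shape hF
  have hSH : ∀ χ ∈ T, χ ∈ Sh.H ↔ blockHeight 2 β (χ : G → ℂ) = 0 := fun χ hχ => by
    rw [← (L.top_facts hF (L.mem_trivT.1 hχ).1).1]
    refine ⟨fun h => ?_, fun h => by_contra fun hn => h (Sh.zero χ hχ hn)⟩
    rcases Sh.one χ h with e | e <;> simp [e]
  obtain ⟨p, q, r, t, hpqrt, hu⟩ := exists_coords Sh hSh hg C.u fun s _ => by
    rw [L.sum_trivT hF]; exact C.perpu _
  obtain ⟨A, A', B', B'', hA0, hx⟩ := exists_coords Sh hSh hg x fun s _ => by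
    rw [L.sum_trivT hF]; exact hxE _
  have hoddF : ∀ v ∈ Sh.H, ∀ w : ℤ, C.u v = L.ent (2 * g) v * w → Odd w := fun v hv w e => by
    have ho : Odd (C.u v) := (C.paru v (L.mem_trivT.1 (Sh.H_subset hv)).1).2
      ((hSH v (Sh.H_subset hv)).1 hv)
    rw [e] at ho
    exact (Int.odd_mul.1 ho).2
  have hu' : (p = 1 ∨ p = -1) ∧ q = p ∧ r = -p ∧ t = -p := by
    have hn := huT
    rw [Finset.sum_congr rfl fun χ hχ => by rw [hu χ hχ], Sh.vec_inner hSh] at hn
    exact odd_coords S.even hg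
      (hoddF Sh.a (by simp [Sh.mem_H]) p (by rw [hu _ (Sh.H_subset (by simp [Sh.mem_H])), Sh.vec_a]))
      (hoddF Sh.b (by simp [Sh.mem_H]) q (by rw [hu _ (Sh.H_subset (by simp [Sh.mem_H])), Sh.vec_b]))
      (hoddF Sh.c (by simp [Sh.mem_H]) r (by rw [hu _ (Sh.H_subset (by simp [Sh.mem_H])), Sh.vec_c]))
      hpqrt hn
  obtain ⟨hp, rfl, rfl, rfl⟩ := hu'
  rw [Finset.sum_congr rfl fun χ hχ => by rw [hu χ hχ, hx χ hχ], Sh.vec_inner hSh] at hxuT
  rw [Finset.sum_congr rfl fun χ hχ => by rw [hx χ hχ], Sh.vec_inner hSh] at hxT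
  rw [Nat.cast_sub hg] at hxuT
  push_cast at hxuT
  have hAA : A' = -A ∧ B'' = -B' := by
    have h' : q * (2 * (g : ℤ)) * (A + A') = 0 := by linear_combination hxuT + q * hA0
    have : A + A' = 0 := by
      refine (mul_eq_zero.1 h').resolve_left (mul_ne_zero ?_ ?_) <;> omega
    omega
  obtain ⟨rfl, rfl⟩ := hAA
  have hAB : A * A + B' * B' = 2 := by
    have : 2 * (A * A + B' * B') = 4 := by linear_combination hxT
    omega
  have hA1 : A * A = 1 := by
    have h1 := mul_self_nonneg A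
    have h2 := mul_self_nonneg B'
    have : A ≤ 1 := by nlinarith
    have : -1 ≤ A := by nlinarith
    have : B' ≤ 1 := by nlinarith
    have : -1 ≤ B' := by nlinarith
    rcases (show A = -1 ∨ A = 0 ∨ A = 1 by omega) with rfl | rfl | rfl <;> try norm_num
    rcases (show B' = -1 ∨ B' = 0 ∨ B' = 1 by omega) with rfl | rfl | rfl <;> norm_num at hAB
  have hB1' : B' * B' = 1 := by linarith
  -- the vector
  set w : IrrCharacter G → ℤ := fun θ =>
    if θ ∈ T then Sh.vec 1 (-1) (-(A * B')) (A * B') θ else 0 with hw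
  have hodd : ∀ e : ℤ, e * e = 1 → Odd e := fun e he => by
    rcases mul_self_eq_one_iff.1 he with rfl | rfl <;> decide
  have hABo : Odd (A * B') := (hodd A hA1).mul (hodd B' hB1')
  have hwsum : ∀ {R : Type} [CommRing R] (F : IrrCharacter G → R),
      ∑ θ ∈ B, (w θ : R) * F θ = ∑ θ ∈ T, (Sh.vec 1 (-1) (-(A * B')) (A * B') θ : R) * F θ := by
    intro R _ F
    rw [← Finset.sum_subset L.trivT_subset fun θ _ hn => by simp [hw, hTdef, hn]]
    exact Finset.sum_congr rfl fun θ hθ => by simp [hw, hθ]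
  have hwdot : ∀ F : IrrCharacter G → ℤ,
      ∑ θ ∈ B, w θ * F θ = ∑ θ ∈ T, Sh.vec 1 (-1) (-(A * B')) (A * B') θ * F θ := fun F => by
    simpa using hwsum F
  refine ⟨w, fun θ hθ => ?_, ?_, fun s hs => ?_, fun s => ?_, fun a ha => ?_⟩
  · by_cases hθT : θ ∈ T
    · simp only [hw, hθT, if_true]
      rw [Sh.vec_odd hSh odd_one (by decide) hABo.neg hABo hθT, hSH θ hθT]
    · simp only [hw, hθT, if_false]
      exact iff_of_false (by simp) fun h => hθT (L.height_mem hF hθ h)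
  · rw [hwdot, Finset.sum_congr rfl fun φ hφ => by
      rw [show w φ = Sh.vec 1 (-1) (-(A * B')) (A * B') φ by simp [hw, hφ]], Sh.vec_inner hSh]
    have : A * B' * (A * B') = 1 := by linear_combination (B' * B') * hA1 + hB1'
    linarith
  · rw [Finset.sum_congr rfl fun θ _ => mul_comm _ _, hwdot,
      Finset.sum_congr rfl fun θ _ => mul_comm _ _]
    exact Sh.vec_perp (by ring) hs
  · rw [Finset.sum_congr rfl fun θ _ => mul_comm _ _, hwdot]
    exact Finset.sum_eq_zero fun θ hθ => by rw [L.odd_inside hF hθ, mul_zero]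
  · by_cases hreg : 2 ∣ orderOf a
    swap
    · refine sum_apply_eq_zero hM hβ B w (fun θ => θ) (fun θ hθ => (Finset.mem_filter.1 hθ).2)
        (fun ψ hψ => ?_) hreg
      rw [hwdot, Finset.sum_congr rfl fun θ hθ => show _ =
          C.u ψ * (Sh.vec 1 (-1) (-(A * B')) (A * B') θ * Sh.vec q q (-q) (-q) θ) by
        rw [hexp θ (L.mem_trivT.1 hθ).1 ψ hψ, hu θ hθ]; ring, ← Finset.mul_sum, Sh.vec_inner hSh]
      ring
    · by_cases hall : ∀ θ ∈ B, (θ : G → ℂ) a = 0
      · exact Finset.sum_eq_zero fun θ hθ => by rw [hall θ hθ, mul_zero]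
      push Not at hall
      obtain ⟨θ, hθ, hne⟩ := hall
      obtain ⟨e, c, hc, hec⟩ := exists_tau_section hM hβ hD S hz (Finset.mem_filter.1 hθ).2 hreg hne
        (hLz ▸ ha)
      rw [Finset.sum_congr rfl fun θ hθ => show _ = (w θ : ℂ) *
          ((x θ : ℂ) * (φ₀ : C⟨Subgroup.zpowers (τ : G)⟩ → ℂ) c) by
        rw [← apply_tau_section hM hβ hD S hz hf hφ₀ (Finset.mem_filter.1 hθ).2 hc, ← hec,
          isClassFunction_irr θ a e],
        Finset.sum_congr rfl fun θ _ => (mul_assoc _ _ _).symm, ← Finset.sum_mul]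
      have h0 : ∑ θ ∈ B, w θ * x θ = 0 := by
        rw [hwdot, Finset.sum_congr rfl fun θ hθ => by rw [hx θ hθ], Sh.vec_inner hSh]
        linear_combination -2 * A * hB1'
      rw [show ∑ θ ∈ B, (w θ : ℂ) * (x θ : ℂ) = ((∑ θ ∈ B, w θ * x θ : ℤ) : ℂ) by push_cast; rfl,
        h0, Int.cast_zero, zero_mul]

end Cfsg.Lib.Blocks.SemidihedralDefect
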