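import Mathlib
import Cfsg.Agent.Blocks.SemidihedralDefect.Witness
import Cfsg.Agent.Blocks.QuaternionDefect.Main
import Cfsg.Agent.Blocks.DihedralDefect.Centre

/-!
# The invariants of a 2-block with semidihedral defect group

The rows come from the centralizer of the involution of the cyclic part, as for quaternion defect
groups; the sections bound the number of members outside the regular rank from below.
-/

set_option autoImplicit false
set_option linter.unusedSectionVars false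
set_option linter.style.haveILetI false

namespace Cfsg.Lib.Blocks.SemidihedralDefect

open Cfsg Cfsg.Lib.Chars Cfsg.Lib.Blocks
open Cfsg.Lib.Blocks.QuaternionDefect (zc zc_center comb sectWeight_conj PsiData core order_zG
  defect_le_C exists_block_down)
open scoped Classical ComplexConjugate

universe u

local notation "C⟨" P "⟩" => Subgroup.centralizer (SetLike.coe P)

variable {G : Type u} [Group G] [Fintype G] {M : Ideal AlgInt}

lemma sectWeight_nonneg (p : ℕ) (b : Set (IrrCharacter G)) (K : Subgroup G) :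
    0 ≤ sectWeight p M b K := by
  unfold sectWeight
  positivity

/-- The sections of a block of the centralizer of an involution `z` which have `z` as a power
count among the sections of the block of the group. -/
theorem sum_sectWeight_le (hM : IsPModular 2 M) {B : Set (IrrCharacter G)} (hB : IsPBlock M B)
    {z : G} (hzo : orderOf z = 2) {β : Set (IrrCharacter C⟨Subgroup.zpowers z⟩)}
    (hind : IsInducedBlock M C⟨Subgroup.zpowers z⟩ β B) :
    ∑ x ∈ (pElements 2 C⟨Subgroup.zpowers z⟩).filter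
        (fun x => zc z ∈ Subgroup.zpowers x),
      sectWeight 2 M β (Subgroup.centralizer ({x} : Set C⟨Subgroup.zpowers z⟩)) ≤
      (Nat.card C⟨Subgroup.zpowers z⟩ : ℤ) * ((Nat.card B : ℤ) - blockRank 2 B) := by
  haveI : Fact (Nat.Prime 2) := ⟨Nat.prime_two⟩
  set w : G → ℤ := fun x => sectWeight 2 M B (Subgroup.centralizer ({x} : Set G)) with hw
  set Z := (pElements 2 G).filter (fun x => z ∈ Subgroup.zpowers x) with hZ
  have hpel : ∀ x ∈ pElements 2 G, ∀ t : G, t * x * t⁻¹ ∈ pElements 2 G := fun x hx t => by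
    obtain ⟨h1, k, hk⟩ := mem_pElements.1 hx
    refine mem_pElements.2 ⟨fun e => h1 ?_, k, by rw [← MulAut.conj_apply, MulEquiv.orderOf_eq, hk]⟩
    rw [← MulAut.conj_apply, MulEquiv.map_eq_one_iff] at e
    exact e
  have hWp : IsPGroup 2 (Subgroup.zpowers z) := IsPGroup.of_card (n := 1) (by
    rw [Nat.card_zpowers, hzo, pow_one])
  have hcount : ∀ x : G,
      ((Finset.univ.filter fun t : G => z ∈ Subgroup.zpowers (t⁻¹ * x * t)).card : ℤ) ≤
        (Nat.card C⟨Subgroup.zpowers z⟩ : ℤ) := by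
    intro x
    rcases (Finset.univ.filter fun t : G => z ∈ Subgroup.zpowers (t⁻¹ * x * t)).eq_empty_or_nonempty
      with he | ⟨t₀, ht₀⟩
    · simp [he]
    rw [Nat.cast_le, Nat.card_eq_fintype_card, Fintype.card_subtype]
    refine Finset.card_le_card_of_injOn (fun t => t₀⁻¹ * t) (fun t ht => ?_)
      (fun a _ b _ e => mul_left_cancel e)
    refine Finset.mem_filter.2 ⟨Finset.mem_univ _, DihedralDefect.mem_of_conj hzo
      (Finset.mem_filter.1 ht₀).2 ?_⟩
    rw [show (t₀⁻¹ * t)⁻¹ * (t₀⁻¹ * x * t₀) * (t₀⁻¹ * t) = t⁻¹ * x * t by group]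
    exact (Finset.mem_filter.1 ht).2
  have htotal : (Nat.card G : ℤ) * ∑ x ∈ Z, w x ≤
      (Nat.card C⟨Subgroup.zpowers z⟩ : ℤ) * ∑ x ∈ pElements 2 G, w x := by
    have h : ∑ x ∈ pElements 2 G, (∑ t : G,
        if z ∈ Subgroup.zpowers (t⁻¹ * x * t) then w x else 0) = (Nat.card G : ℤ) * ∑ x ∈ Z, w x := by
      rw [Finset.sum_comm, Finset.sum_congr rfl fun t _ => show _ = ∑ x ∈ Z, w x by
          rw [← Finset.sum_filter]
          refine Finset.sum_nbij' (fun x => t⁻¹ * x * t) (fun x => t * x * t⁻¹) (fun x hx => ?_)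
            (fun x hx => ?_) (fun x _ => by group) (fun x _ => by group) fun x hx => ?_
          · obtain ⟨h1, h2⟩ := Finset.mem_filter.1 hx
            exact Finset.mem_filter.2 ⟨by simpa using hpel x h1 t⁻¹, h2⟩
          · obtain ⟨h1, h2⟩ := Finset.mem_filter.1 hx
            refine Finset.mem_filter.2 ⟨hpel x h1 t, ?_⟩
            rwa [show t⁻¹ * (t * x * t⁻¹) * t = x by group]
          · obtain ⟨h1, -⟩ := Finset.mem_filter.1 hx
            have h := sectWeight_conj hM hB (mem_pElements.1 h1).2 t⁻¹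
            rw [inv_inv] at h
            simp only [hw]
            exact h.symm,
        Finset.sum_const, Finset.card_univ, nsmul_eq_mul, Nat.card_eq_fintype_card]
    rw [← h, Finset.mul_sum]
    refine Finset.sum_le_sum fun x _ => ?_
    rw [← Finset.sum_filter, Finset.sum_const, nsmul_eq_mul]
    exact mul_le_mul_of_nonneg_right (hcount x) (sectWeight_nonneg 2 B _)
  rw [← card_sub_rank_eq_sum hM hB, mul_left_comm (Nat.card C⟨Subgroup.zpowers z⟩ : ℤ)] at htotal
  refine le_trans ?_ (le_of_mul_le_mul_left htotal (Int.natCast_pos.2 Nat.card_pos))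
  calc _ ≤ ∑ x ∈ (pElements 2 C⟨Subgroup.zpowers z⟩).filter (fun x => zc z ∈ Subgroup.zpowers x),
        w (x : G) := Finset.sum_le_sum fun x hx => ?_
    _ = ∑ x ∈ Z, w x := ?_
  · obtain ⟨h1, h2⟩ := Finset.mem_filter.1 hx
    have h2' : z ∈ Subgroup.zpowers (x : G) := by
      obtain ⟨j, hj⟩ := Subgroup.mem_zpowers_iff.1 h2
      exact Subgroup.mem_zpowers_iff.2 ⟨j, by rw [← Subgroup.coe_zpow, hj]; rfl⟩
    have hloc := sum_sectWeight_local hM hWp (N := C⟨Subgroup.zpowers z⟩)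
      (fun a ha => by
        rw [DihedralDefect.mem_C_iff]
        obtain ⟨j, rfl⟩ := Subgroup.mem_zpowers_iff.1 ha
        exact ((Commute.refl z).zpow_left j).eq)
      le_rfl (Subgroup.centralizer_le_normalizer _) (B := B) (mem_pElements.1 h1).2
    rw [inf_eq_left.2 (fun a (ha : a ∈ Subgroup.centralizer ({(x : G)} : Set G)) =>
        (DihedralDefect.mem_C_iff (z := z) a).2 (by
          obtain ⟨j, hj⟩ := Subgroup.mem_zpowers_iff.1 h2'
          rw [← hj]
          exact ((show Commute a (x : G) from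
            Subgroup.mem_centralizer_singleton_iff.1 ha).zpow_right j).eq))] at hloc
    simp only [hw]
    rw [← hloc]
    exact Finset.single_le_sum
      (f := fun b => sectWeight 2 M b (Subgroup.centralizer ({x} : Set C⟨Subgroup.zpowers z⟩)))
      (fun b _ => sectWeight_nonneg 2 b _)
      (Finset.mem_filter.2 ⟨(mem_blocksFinset hM).2 hind.1, hind⟩)
  · refine Finset.sum_bij (fun x _ => (x : G)) (fun x hx => ?_) (fun x _ x' _ e => Subtype.ext e)
      (fun x hx => ?_) fun x hx => rfl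
    · obtain ⟨h1, h2⟩ := Finset.mem_filter.1 hx
      obtain ⟨hne, k, hk⟩ := mem_pElements.1 h1
      obtain ⟨j, hj⟩ := Subgroup.mem_zpowers_iff.1 h2
      exact Finset.mem_filter.2 ⟨mem_pElements.2
        ⟨fun e => hne (Subtype.ext e), k, by rwa [Subgroup.orderOf_coe]⟩,
        Subgroup.mem_zpowers_iff.2 ⟨j, by rw [← Subgroup.coe_zpow, hj]; rfl⟩⟩
    · obtain ⟨h1, h2⟩ := Finset.mem_filter.1 hx
      obtain ⟨hne, k, hk⟩ := mem_pElements.1 h1
      obtain ⟨j, hj⟩ := Subgroup.mem_zpowers_iff.1 h2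
      have hxH : x ∈ C⟨Subgroup.zpowers z⟩ := by
        rw [DihedralDefect.mem_C_iff, ← hj]
        exact ((Commute.refl x).zpow_right j).eq
      exact ⟨⟨x, hxH⟩, Finset.mem_filter.2 ⟨mem_pElements.2
        ⟨fun e => hne (congrArg Subtype.val e), k, by rwa [Subgroup.orderOf_mk]⟩,
        Subgroup.mem_zpowers_iff.2 ⟨j, Subtype.ext (by rw [Subgroup.coe_zpow]; exact hj)⟩⟩, rfl⟩

/-- A block of rank one has at most `2 g + 3` members. -/
theorem card_le_of_rank_one (hM : IsPModular 2 M) {B : Set (IrrCharacter G)} (hB : IsPBlock M B)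
    {g k : ℕ} (hgk : g = 2 ^ k) (hdB : blockDefect 2 B = k + 3) (hl : blockRank 2 B = 1)
    (h4 : Nat.card {χ : IrrCharacter G // χ ∈ B ∧ blockHeight 2 B (χ : G → ℂ) = 0} = 4) :
    Nat.card B ≤ 2 * g + 3 := by
  haveI : Fact (Nat.Prime 2) := ⟨Nat.prime_two⟩
  obtain ⟨φ, d, -, hreg, hsum⟩ := exists_of_blockRank_one hM hB hl
  set T := Finset.univ.filter (· ∈ B) with hT
  rw [finsum_mem_eq_sum_of_inter_support_eq _ (t := T) (by simp [hT]), hdB,
    show 2 ^ (k + 3) = 8 * g by rw [hgk, pow_add]; ring] at hsum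
  have hmem : ∀ χ, χ ∈ T ↔ χ ∈ B := fun χ => by simp [hT]
  obtain ⟨ξ, hξ, hξ0⟩ := exists_height_zero hM hB
  have hd0 : ∀ χ ∈ B, d χ ≠ 0 := fun χ hχ h => by
    have h1 := hreg χ hχ 1 (show ¬ 2 ∣ orderOf (1 : G) by simp)
    rw [h, Nat.cast_zero, zero_mul] at h1
    exact IsIrrCharacter.apply_one_ne_zero χ.2 h1
  have hfac : ∀ χ ∈ B, (deg (χ : G → ℂ)).factorization 2 =
      minExp 2 B + blockHeight 2 B (χ : G → ℂ) := fun χ hχ => by
    have hle := minExp_le hM hB hχ
    rw [blockHeight]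
    change _ = minExp 2 B + ((deg (χ : G → ℂ)).factorization 2 - minExp 2 B)
    omega
  have hbig : ∀ χ ∈ T, (if blockHeight 2 B (χ : G → ℂ) = 0 then 1 else 4) ≤ d χ ^ 2 := by
    intro χ hχ
    have hχB := (hmem χ).1 hχ
    have h1 : 1 ≤ d χ := Nat.pos_of_ne_zero (hd0 χ hχB)
    split_ifs with h
    · exact Nat.one_le_pow _ _ h1
    have hprop : d ξ * deg (χ : G → ℂ) = d χ * deg (ξ : G → ℂ) := by
      apply Nat.cast_injective (R := ℂ)
      push_cast
      rw [← irr_apply_one_eq_deg, ← irr_apply_one_eq_deg,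
        hreg χ hχB 1 (show ¬ 2 ∣ orderOf (1 : G) by simp),
        hreg ξ hξ 1 (show ¬ 2 ∣ orderOf (1 : G) by simp)]
      ring
    have he := congrArg (fun n : ℕ => n.factorization 2) hprop
    simp only [Nat.factorization_mul (hd0 ξ hξ) (deg_irr_pos χ).ne',
      Nat.factorization_mul (hd0 χ hχB) (deg_irr_pos ξ).ne', Finsupp.add_apply,
      hfac χ hχB, hfac ξ hξ, hξ0] at he
    have h2 : 2 ≤ d χ := Nat.le_of_dvd h1 (Nat.dvd_of_factorization_pos (by omega))
    exact le_trans (by norm_num) (Nat.pow_le_pow_left h2 2)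
  have hle := (Finset.sum_le_sum hbig).trans hsum.le
  rw [Finset.sum_ite, Finset.sum_const, Finset.sum_const, smul_eq_mul, smul_eq_mul] at hle
  have h0 : (T.filter fun χ : IrrCharacter G => blockHeight 2 B (χ : G → ℂ) = 0).card = 4 := by
    rw [← h4, Nat.card_eq_fintype_card, Fintype.card_subtype, hT, Finset.filter_filter]
  have hc := Finset.card_filter_add_card_filter_not (s := T) (fun χ : IrrCharacter G => blockHeight 2 B (χ : G → ℂ) = 0)
  rw [show Nat.card B = T.card by rw [hT, Nat.card_eq_fintype_card, Fintype.card_subtype]]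
  omega

/-- **The invariants of a 2-block with semidihedral defect group.** -/
theorem invariants (hM : IsPModular 2 M) {B : Set (IrrCharacter G)} (hB : IsPBlock M B)
    {D : Subgroup G} (hD : IsDefectGroup 2 M B D) [Fintype D] (hsd : IsQuasiDihedral D)
    {σ τ : D} {g k : ℕ} (S : SDih σ τ g) (hgk : g = 2 ^ k) :
    1 ≤ blockRank 2 B ∧ blockRank 2 B + 2 * g + 1 ≤ Nat.card B ∧
      2 * g + 3 ≤ Nat.card B ∧ Nat.card B ≤ 2 * g + 4 ∧
      (blockRank 2 B = 1 → Nat.card B ≤ 2 * g + 3) ∧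
      Nat.card {χ : IrrCharacter G // χ ∈ B ∧ blockHeight 2 B (χ : G → ℂ) = 0} = 4 ∧
      (∀ χ ∈ B, blockHeight 2 B (χ : G → ℂ) = 0 ∨ blockHeight 2 B (χ : G → ℂ) = 1 ∨
        blockHeight 2 B (χ : G → ℂ) = k + 1) ∧
      Nat.card {χ : IrrCharacter G // χ ∈ B ∧ blockHeight 2 B (χ : G → ℂ) = 1} = 2 * g - 1 := by
  haveI : Fact (Nat.Prime 2) := ⟨Nat.prime_two⟩
  obtain ⟨z, hzdef⟩ : ∃ z : G, z = ((σ ^ (2 * g) : D) : G) := ⟨_, rfl⟩
  have hz : orderOf z = 2 := hzdef ▸ order_zG S.axis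
  have hDH : D ≤ C⟨Subgroup.zpowers z⟩ := by rw [hzdef]; exact defect_le_C S.axis
  obtain ⟨c, hc⟩ := exists_pair_of_defect hM hB hD
  have hCH : C⟨D⟩ ≤ C⟨Subgroup.zpowers z⟩ :=
    le_centralizer_of_le (Subgroup.zpowers_le.2 (hzdef ▸ (σ ^ (2 * g) : D).2))
  obtain ⟨β, hind, hDβ⟩ := exists_block_down hM hD hc.1 hDH hCH
  set P := D.subgroupOf C⟨Subgroup.zpowers z⟩ with hP
  set e : D ≃* P := (Subgroup.subgroupOfEquivOfLe hDH).symm with he
  have SP : SDih (e σ) (e τ) g := S.map e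
  have hψ : ∀ {P' : Type u} [Group P'] [Fintype P'] (e' : P ≃* P'),
      ∃ ψ : ℕ → P' → ℂ, PsiData (e' (e σ)) g ψ := fun e' =>
    ⟨_, (SP.map e').psiData (ζ := Complex.exp (2 * Real.pi * Complex.I / ((4 * g : ℕ) : ℂ)))
      (Complex.isPrimitiveRoot_exp _ (by have := S.axis.pos; omega))⟩
  have hzP : (((e σ) ^ (2 * g) : P) : C⟨Subgroup.zpowers z⟩) = zc z := by
    rw [← map_pow]
    exact Subtype.ext hzdef.symm
  have hzc : (((e σ) ^ (2 * g) : P) : C⟨Subgroup.zpowers z⟩) ∈ Subgroup.center _ :=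
    hzP ▸ zc_center z
  have hcentre := exists_centre_sd hM hind.1 hDβ SP hψ hzc
  have hoff := sum_sectWeight_off hM hind.1 hDβ SP hzc
  rw [hzP] at hcentre hoff
  obtain ⟨E, hrows, Cd, -, hkernel⟩ := hcentre
  have hd : ∀ {K : Type u} [Group K] [Fintype K] {b : Set (IrrCharacter K)} {P' : Subgroup K},
      IsPBlock M b → IsDefectGroup 2 M b P' → Nat.card P' = 8 * g → blockDefect 2 b = k + 3 := by
    intro K _ _ b P' hb hP' hcard
    refine Nat.pow_right_injective (le_refl 2) ?_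
    show 2 ^ blockDefect 2 b = 2 ^ (k + 3)
    rw [← IsDefectGroup.card hM hb hP', hcard, hgk, pow_add]
    ring
  have hdβ : blockDefect 2 β = k + 3 :=
    hd hind.1 hDβ (by rw [← Nat.card_congr e.toEquiv, S.card])
  have hdB : blockDefect 2 B = k + 3 := hd hB hD S.card
  have hwit : Cd.m = 0 → ∃ x₀ : IrrCharacter C⟨Subgroup.zpowers z⟩ → ℤ,
      (∀ θ ∈ β, (Odd (x₀ θ) ↔ blockHeight 2 β (θ : C⟨Subgroup.zpowers z⟩ → ℂ) = 0)) ∧
      ∑ θ ∈ Finset.univ.filter (· ∈ β), x₀ θ * x₀ θ ≤ 8 ∧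
      (∀ s ∈ Finset.Icc 1 g, ∑ θ ∈ Finset.univ.filter (· ∈ β), E (2 * s) θ * x₀ θ = 0) ∧
      (∀ s, ∑ θ ∈ Finset.univ.filter (· ∈ β), E (2 * s + 1) θ * x₀ θ = 0) ∧
      DihedralDefect.SuppZ z (comb β x₀) := fun hm => by
    obtain ⟨x₀, hxpar, hxn, hxe, hxo, hxs⟩ := hkernel hm
    refine ⟨x₀, hxpar, hxn, hxe, hxo, fun a ha => ?_⟩
    by_contra hn
    refine ha (hxs a fun hmem => hn ?_)
    obtain ⟨j, hj⟩ := Subgroup.mem_zpowers_iff.1 hmem
    exact Subgroup.mem_zpowers_iff.2 ⟨j, by rw [← Subgroup.coe_zpow, hj]; rfl⟩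
  obtain ⟨hle, hge, h4, hh, hone⟩ := core hM hB hz hind hgk hdβ hdB hrows Cd hwit
  have hm1 : Cd.m ≤ 1 := by
    have hsdP : IsQuasiDihedral P := by
      obtain ⟨n, hn, hcard, x, y, hx, hy, hxy⟩ := hsd
      exact ⟨n, hn, by rw [← Nat.card_congr e.toEquiv, hcard], e x, e y,
        (MulEquiv.orderOf_eq e x).trans hx, (MulEquiv.orderOf_eq e y).trans hy,
        by rw [← map_inv, ← map_mul, ← map_mul, hxy, map_pow]⟩
    have h := DihedralDefect.rank_le_two_of_central hM hind.1 hDβ hsdP (zc_center z)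
      (by rw [← Subgroup.orderOf_coe]; exact hz)
    rw [Cd.rank] at h
    omega
  -- the sections
  have hlow : (2 * g + 1 : ℤ) ≤ (Nat.card B : ℤ) - blockRank 2 B := by
    have hβ := card_sub_rank_eq_sum hM hind.1
    rw [← Finset.sum_filter_add_sum_filter_not (pElements 2 C⟨Subgroup.zpowers z⟩)
      (fun x => zc z ∈ Subgroup.zpowers x), hoff, Cd.card, Cd.rank] at hβ
    simp only [Nat.cast_add, Nat.cast_mul, Nat.cast_ofNat, Nat.cast_one] at hβ
    have h := sum_sectWeight_le hM hB hz hind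
    refine le_of_mul_le_mul_left ?_ (Int.natCast_pos.2 (Nat.card_pos (α := C⟨Subgroup.zpowers z⟩)))
    refine le_trans (le_of_eq ?_) h
    linear_combination hβ
  have hpos := one_le_blockRank hM hB
  have h2 : 2 ≤ g := S.two_le
  refine ⟨hpos, by omega, hge h2, by omega, fun hl => card_le_of_rank_one hM hB hgk hdB hl h4, h4,
    hh, hone h2⟩

end Cfsg.Lib.Blocks.SemidihedralDefect
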